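import Cfsg.Agent.H27.Monomial
import Cfsg.Agent.H25.IndRep
import Cfsg.Agent.H25.CharValues
import Cfsg.Agent.H26.CharOrtho
import Cfsg.Agent.H57.VChar

/-!
Groups with faithful representations of small degree, and Taketa's theorem.
-/

namespace Cfsg.Agent.H27

open scoped commutatorElement

variable {G : Type*} [Group G]

/-- A nontrivial normal subgroup of a finite `p`-group meets the centre. -/
theorem inf_center_ne_bot [Finite G] {p : ℕ} [Fact p.Prime] (hG : IsPGroup p G) (N : Subgroup G)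
    [hN : N.Normal] (hne : N ≠ ⊥) : N ⊓ Subgroup.center G ≠ ⊥ := by
  classical
  let α := N
  letI act : MulAction G α :=
    { smul := fun g x => ⟨g * x * g⁻¹, hN.conj_mem x x.2 g⟩
      one_smul := fun x => Subtype.ext (show (1 : G) * x * 1⁻¹ = x by simp)
      mul_smul := fun g h x => Subtype.ext
        (show g * h * x * (g * h)⁻¹ = g * (h * x * h⁻¹) * g⁻¹ by simp [mul_assoc]) }
  have h1 := hG.card_modEq_card_fixedPoints α
  haveI : Nontrivial α := (Subgroup.nontrivial_iff_ne_bot N).2 hne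
  obtain ⟨k, hk⟩ := (hG.to_subgroup N).exists_card_eq
  have hk0 : k ≠ 0 := fun e => by
    subst e; rw [pow_zero] at hk; exact Finite.one_lt_card.ne' hk
  have h2 : p ∣ Nat.card α := hk ▸ dvd_pow_self p hk0
  have h3 : (1 : N) ∈ MulAction.fixedPoints G α := fun g =>
    Subtype.ext (show g * (1 : G) * g⁻¹ = 1 by simp)
  obtain ⟨x, hx, hne1⟩ := hG.exists_fixed_point_of_prime_dvd_card_of_fixed_point α h2 h3
  refine (Subgroup.ne_bot_iff_exists_ne_one (H := N ⊓ Subgroup.center G)).2
    ⟨⟨x.1, x.2, Subgroup.mem_center_iff.2 fun g =>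
      mul_inv_eq_iff_eq_mul.1 (congrArg Subtype.val (hx g))⟩, fun e => hne1 ?_⟩
  exact Subtype.ext (congrArg Subtype.val e).symm

/-- The character value at a commutator of a representation of degree less than every prime
divisor of the group order is the degree. -/
theorem commute_of_degree_lt_prime [Finite G] {V : Type*} [AddCommGroup V] [Module ℂ V]
    [FiniteDimensional ℂ V] (ρ : Representation ℂ G V) (hfaithful : Function.Injective ρ)
    (hdeg : ∀ p : ℕ, p.Prime → p ∣ Nat.card G → Module.finrank ℂ V < p) (a b : G) :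
    a * b = b * a := by
  classical
  haveI := Fintype.ofFinite G
  set c := a * b * a⁻¹ * b⁻¹ with hc
  obtain ⟨s, hs⟩ := H26.exists_multiset_irr ρ
  have hdim : (Module.finrank ℂ V : ℂ) = (s.map fun χ : Cfsg.IrrCharacter G => χ.1 1).sum := by
    rw [← ρ.char_one, hs, Pi.multiset_sum_apply, Multiset.map_map]; rfl
  have hval : ρ.character c = (Module.finrank ℂ V : ℂ) := by
    rw [hdim, hs, Pi.multiset_sum_apply, Multiset.map_map]
    refine congrArg Multiset.sum (Multiset.map_congr rfl fun χ hχ => ?_)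
    show χ.1 c = χ.1 1
    obtain ⟨d, σ, hσ, hσχ⟩ := χ.2
    have hd0 : 0 < Module.finrank ℂ (Fin d → ℂ) := H25.finrank_pos_of_isIrreducible σ
    have hle : Module.finrank ℂ (Fin d → ℂ) ≤ Module.finrank ℂ V := by
      obtain ⟨t, rfl⟩ := Multiset.exists_cons_of_mem hχ
      obtain ⟨k, hk⟩ := H26.exists_nat_char_one (H26.isCharacter_multiset_sum t)
      rw [Pi.multiset_sum_apply, Multiset.map_map] at hk
      rw [Multiset.map_cons, Multiset.sum_cons, show χ.1 1 = (Module.finrank ℂ (Fin d → ℂ) : ℂ) by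
        rw [← hσχ, σ.char_one], show (t.map fun χ : Cfsg.IrrCharacter G => χ.1 1).sum = (k : ℂ) from hk]
        at hdim
      have : Module.finrank ℂ V = Module.finrank ℂ (Fin d → ℂ) + k := by exact_mod_cast hdim
      omega
    have hd1 : Module.finrank ℂ (Fin d → ℂ) = 1 := by
      by_contra h
      obtain ⟨q, hq, hqd⟩ := Nat.exists_prime_and_dvd h
      have := hdeg q hq (hqd.trans (H25.finrank_dvd_card σ))
      have := Nat.le_of_dvd hd0 hqd
      omega
    obtain ⟨w, -, hw⟩ := finrank_eq_one_iff'.1 hd1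
    have hcomm : ∀ x y : G, σ x * σ y = σ y * σ x := by
      intro x y
      apply LinearMap.ext
      intro v
      obtain ⟨r, rfl⟩ := hw v
      obtain ⟨r1, hr1⟩ := hw (σ x w)
      obtain ⟨r2, hr2⟩ := hw (σ y w)
      simp only [Module.End.mul_apply, map_smul, ← hr1, ← hr2, smul_smul, mul_comm]
    obtain ⟨-, lam, hlam⟩ := exists_hom_of_commutative_image σ hcomm
    rw [← hσχ, hlam, hlam, hc]
    simp only [map_mul, map_inv, map_one, mul_inv_cancel_comm, mul_inv_cancel]
  have h1 : c = 1 := hfaithful (by rw [map_one]; exact (H25.char_eq_degree_iff ρ c).1 hval)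
  rw [hc, mul_inv_eq_one, mul_inv_eq_iff_eq_mul] at h1
  exact h1

/-- Taketa: monomial groups are solvable. -/
theorem isSolvable_of_monomial [Fintype G] (hM : ∀ χ : G → ℂ, Cfsg.IsIrrCharacter G χ →
    ∃ (H : Subgroup G) (lam : H →* ℂˣ), χ = Cfsg.indFun H (fun h => (lam h : ℂ))) :
    Group.IsSolvable G := by
  classical
  by_contra hns
  -- the last term of the derived series
  obtain ⟨m, hm⟩ : ∃ m, derivedSeries G (m + 1) = derivedSeries G m := by
    by_contra h
    push_neg at h
    have hlt : ∀ m, Nat.card (derivedSeries G m) + m ≤ Nat.card G := by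
      intro m
      induction m with
      | zero => simpa using Subgroup.card_le_card_group _
      | succ m ih =>
        have hle : derivedSeries G (m + 1) ≤ derivedSeries G m :=
          derivedSeries_antitone G (Nat.le_succ m)
        have : Nat.card (derivedSeries G (m + 1)) < Nat.card (derivedSeries G m) :=
          lt_of_le_of_ne (Subgroup.card_le_of_le hle)
            fun e => h m (Subgroup.eq_of_le_of_card_ge hle e.ge)
        omega
    have h1 := hlt (Nat.card G)
    have h2 : 0 < Nat.card (derivedSeries G (Nat.card G)) := Nat.card_pos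
    omega
  set N := derivedSeries G m with hN
  have hperfect : ⁅N, N⁆ = N := hm
  have hN0 : N ≠ ⊥ := fun e => hns ⟨m, e⟩
  haveI : N.Normal := derivedSeries_normal G m
  -- a character not trivial on `N`, of least degree
  have hex : ∃ d : ℕ, ∃ χ : Cfsg.IrrCharacter G, χ.1 1 = (d : ℂ) ∧ ∃ x ∈ N, χ.1 x ≠ χ.1 1 := by
    obtain ⟨⟨x, hx⟩, hx1⟩ := Subgroup.ne_bot_iff_exists_ne_one.1 hN0
    have hx1' : x ≠ 1 := fun e => hx1 (Subtype.ext e)
    by_contra h
    apply hx1'
    refine isConj_one_right.mp ((H26.isConj_iff_forall_irr (1 : G) x).2 fun χ => ?_)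
    by_contra hne
    obtain ⟨d, hd⟩ := H26.exists_nat_char_one (H26.irr_isCharacter χ)
    exact h ⟨d, χ, hd, x, hx, fun e => hne e.symm⟩
  obtain ⟨χ, hd, x, hxN, hxne⟩ := Nat.find_spec hex
  set d := Nat.find hex
  have hmin : ∀ ψ : Cfsg.IrrCharacter G, ∀ k : ℕ, ψ.1 1 = (k : ℂ) → k < d → ∀ y ∈ N, ψ.1 y = ψ.1 1 := by
    intro ψ k hk hkd y hy
    by_contra hne
    exact Nat.find_min hex hkd ⟨ψ, hk, y, hy, hne⟩
  obtain ⟨H, lam, hlam⟩ := hM χ.1 χ.2
  set P := Cfsg.indFun H (fun _ => (1 : ℂ)) with hP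
  have hP1 : P 1 = (d : ℂ) := by
    rw [hP, H25.indFun_one, ← hd, hlam, H25.indFun_one]; simp
  have hPchar : Cfsg.IsCharacter G P :=
    H25.isCharacter_indFun H (H26.isCharacter_of_irr (H26.oneIrr H).2)
  obtain ⟨a, ha, haP⟩ := H26.exists_nat_coeffs hPchar
  have hone : a (H26.oneIrr G) = 1 := by
    have h1 := ha (H26.oneIrr G)
    rw [hP, H25.classInner_indFun_left H _ _ (H26.irr_isClassFunction _),
      show (fun h : H => (H26.oneIrr G).1 h) = fun _ => (1 : ℂ) from rfl,
      show Cfsg.classInner (fun _ : H => (1 : ℂ)) (fun _ => 1) = 1 from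
        H57.irr_inner_self (H26.oneIrr H).2] at h1
    exact_mod_cast h1.symm
  have hPN : ∀ y ∈ N, P y = P 1 := by
    intro y hy
    rw [haP]
    simp only [Finset.sum_apply, Pi.smul_apply, smul_eq_mul]
    refine Finset.sum_congr rfl fun ψ _ => ?_
    by_cases ha0 : a ψ = 0
    · simp [ha0]
    by_cases hψ1 : ψ = H26.oneIrr G
    · subst hψ1; simp [H26.oneIrr_val]
    obtain ⟨k, hk⟩ := H26.exists_nat_char_one (H26.irr_isCharacter ψ)
    rw [hmin ψ k hk ?_ y hy]
    -- the degree is smaller, the principal character being a constituent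
    have h2 : (d : ℂ) = ∑ φ : Cfsg.IrrCharacter G, (a φ : ℂ) * φ.1 1 := by
      rw [← hP1, haP]; simp [Finset.sum_apply]
    choose deg hdeg using fun φ : Cfsg.IrrCharacter G => H26.exists_nat_char_one (H26.irr_isCharacter φ)
    simp only [hdeg] at h2
    have h3 : d = ∑ φ : Cfsg.IrrCharacter G, a φ * deg φ := by exact_mod_cast h2
    have h4 : a ψ * deg ψ + a (H26.oneIrr G) * deg (H26.oneIrr G) ≤ d := by
      rw [h3, ← Finset.sum_pair (f := fun φ => a φ * deg φ) hψ1]
      exact Finset.sum_le_sum_of_subset (Finset.subset_univ _)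
    have h5 : deg (H26.oneIrr G) = 1 := by
      exact_mod_cast ((hdeg (H26.oneIrr G)).symm.trans (H26.oneIrr_val 1))
    have h6 : deg ψ = k := by exact_mod_cast ((hdeg ψ).symm.trans hk)
    rw [hone, h5, h6] at h4
    have : k ≤ a ψ * k := Nat.le_mul_of_pos_left k (Nat.pos_of_ne_zero ha0)
    omega
  -- hence `N ≤ H` with all conjugates
  have hNH : ∀ y ∈ N, y ∈ H := by
    intro y hy
    by_contra hyH
    let f : G → ℕ := fun z => if z⁻¹ * y * z ∈ H then 1 else 0
    have hPy : ∀ w, P w = (Nat.card H : ℂ)⁻¹ *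
        ((∑ z : G, if z⁻¹ * w * z ∈ H then 1 else 0 : ℕ) : ℂ) := by
      intro w
      rw [hP, H25.indFun_apply, Nat.cast_sum]
      congr 1
      refine Finset.sum_congr rfl fun z _ => ?_
      by_cases hz : z⁻¹ * w * z ∈ H
      · rw [H25.extendByZero_of_mem _ _ hz, if_pos hz, Nat.cast_one]
      · rw [H25.extendByZero_of_notMem _ _ hz, if_neg hz, Nat.cast_zero]
    have h1 := hPN y hy
    rw [hPy, hPy] at h1
    have h2 : ∑ z : G, f z = ∑ z : G, if z⁻¹ * 1 * z ∈ H then 1 else 0 := by
      exact_mod_cast mul_left_cancel₀ (inv_ne_zero (by exact_mod_cast Nat.card_pos.ne')) h1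
    simp only [mul_one, inv_mul_cancel, Subgroup.one_mem, if_true] at h2
    have h3 : ∑ z : G, f z < ∑ _z : G, 1 := Finset.sum_lt_sum
      (fun z _ => by simp only [f]; split_ifs <;> omega)
      ⟨1, Finset.mem_univ _, by simp [f, hyH]⟩
    omega
  -- `lam` is trivial on the perfect group `N`
  have hlamN : ∀ y (hy : y ∈ N), lam ⟨y, hNH y hy⟩ = 1 := by
    intro y hy
    have h1 : N ≤ (lam.ker).map H.subtype := by
      rw [← hperfect, Subgroup.commutator_le]
      intro u hu v hv
      refine ⟨⁅(⟨u, hNH u hu⟩ : H), ⟨v, hNH v hv⟩⁆, ?_, rfl⟩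
      rw [SetLike.mem_coe, MonoidHom.mem_ker, map_commutatorElement]
      exact commutatorElement_eq_one_iff_mul_comm.2 (mul_comm _ _)
    obtain ⟨w, hw, hwy⟩ := h1 hy
    rw [show (⟨y, hNH y hy⟩ : H) = w from Subtype.ext hwy.symm]
    exact hw
  apply hxne
  rw [hlam, H25.indFun_apply, H25.indFun_apply]
  refine congrArg (_ * ·) (Finset.sum_congr rfl fun z _ => ?_)
  have hz : z⁻¹ * x * z ∈ N := ‹N.Normal›.conj_mem' x hxN z
  rw [H25.extendByZero_of_mem _ _ (hNH _ hz), hlamN _ hz]
  simp only [mul_one, inv_mul_cancel]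
  rw [H25.extendByZero_of_mem _ _ (Subgroup.one_mem H)]
  simp only [Units.val_one]
  exact (congrArg Units.val (map_one lam)).symm

end Cfsg.Agent.H27
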