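import Cfsg.Agent.H27.Induction
import Cfsg.Agent.H26.CharEquiv
import Cfsg.Agent.H57.VChar
import Mathlib

/-!
Brauer's splitting field theorem: realisability over the cyclotomic field of the exponent.
-/

namespace Cfsg.Agent.H27

open Module

universe u

section Rational

variable {G : Type u} [Group G] {F : Type*} [Field F]

/-- The matrix representation attached to a representation on a finite dimensional space. -/
noncomputable def matrixHom {V : Type*} [AddCommGroup V] [Module F V] [FiniteDimensional F V]
    (ρ : Representation F G V) : G →* Matrix (Fin (finrank F V)) (Fin (finrank F V)) F where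
  toFun g := LinearMap.toMatrix (finBasis F V) (finBasis F V) (ρ g)
  map_one' := by simp
  map_mul' g h := by rw [map_mul, LinearMap.toMatrix_mul]

/-- The monomial matrix representation induced from a linear character with values in `F`. -/
theorem exists_monomial [Fintype G] (E : Subgroup G) (lam : E →* F) (emb : F →+* ℂ) :
    ∃ (d : ℕ) (P : Representation F G (Fin d → F)),
      ∀ g, emb (P.character g) = Cfsg.indFun E (fun e => emb (lam e)) g := by
  classical
  let Q := G ⧸ E
  haveI : Fintype Q := Fintype.ofFinite Q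
  let s : Q → G := Quotient.out
  have hs : ∀ q : Q, (s q : Q) = q := fun q => QuotientGroup.out_eq' q
  let lam' : G → F := fun x => if hx : x ∈ E then lam ⟨x, hx⟩ else 0
  let M : G → Matrix Q Q F := fun g a b => lam' ((s a)⁻¹ * g * s b)
  have hmem : ∀ (g : G) (a b : Q), (s a)⁻¹ * g * s b ∈ E ↔ a = g • b := by
    intro g a b
    rw [mul_assoc, ← QuotientGroup.eq, hs]
    show a = ((g * s b : G) : Q) ↔ _
    conv_rhs => rw [← hs b]
    rfl
  have hM1 : M 1 = 1 := by
    ext a b
    simp only [M, lam', Matrix.one_apply]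
    by_cases hab : a = b
    · subst hab
      have : (s a)⁻¹ * 1 * s a ∈ E := by simp [E.one_mem]
      rw [dif_pos this, if_pos rfl]
      rw [show (⟨(s a)⁻¹ * 1 * s a, this⟩ : E) = 1 from Subtype.ext (by simp), map_one]
    · rw [dif_neg (fun h => hab (by simpa using (hmem 1 a b).1 h)), if_neg hab]
  have hMmul : ∀ g h, M (g * h) = M g * M h := by
    intro g h
    ext a b
    rw [Matrix.mul_apply, Finset.sum_eq_single (h • b)]
    · simp only [M, lam']
      have h2 : (s (h • b))⁻¹ * h * s b ∈ E := (hmem h _ b).2 rfl
      rw [dif_pos h2]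
      by_cases h1 : (s a)⁻¹ * g * s (h • b) ∈ E
      · rw [dif_pos h1, ← map_mul]
        have h3 : (s a)⁻¹ * (g * h) * s b ∈ E := by
          have := E.mul_mem h1 h2
          simpa [mul_assoc] using this
        rw [dif_pos h3]
        exact congrArg lam (Subtype.ext (by simp [mul_assoc]))
      · rw [dif_neg h1, zero_mul, dif_neg]
        intro h3
        exact h1 ((hmem g a (h • b)).2 (by rw [← mul_smul]; exact (hmem (g * h) a b).1 h3))
    · intro c _ hc
      simp only [M, lam']
      rw [dif_neg (fun h2 => hc ((hmem h c b).1 h2)), mul_zero]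
    · simp
  let Mh : G →* Matrix Q Q F := { toFun := M, map_one' := hM1, map_mul' := hMmul }
  let ρ : Representation F G (Q → F) := Matrix.toLinAlgEquiv'.toMonoidHom.comp Mh
  have hρ : ∀ g, ρ.character g = ∑ q : Q, lam' ((s q)⁻¹ * g * s q) := by
    intro g
    show LinearMap.trace F _ (Matrix.toLin' (M g)) = _
    rw [Matrix.trace_toLin'_eq]
    rfl
  let e : (Q → F) ≃ₗ[F] (Fin (Fintype.card Q) → F) :=
    LinearEquiv.funCongrLeft F F (Fintype.equivFin Q).symm
  let P : Representation F G (Fin (Fintype.card Q) → F) :=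
    (LinearEquiv.conjRingEquiv e).toMonoidHom.comp ρ
  refine ⟨_, P, fun g => ?_⟩
  have hP : P.character g = ρ.character g := LinearMap.trace_conj' (ρ g) e
  rw [hP, hρ, map_sum, H25.indFun_apply]
  -- the summand only depends on the coset of `x`
  set φ : E → ℂ := fun e => emb (lam e)
  have hφ : ∀ x, emb (lam' x) = Cfsg.extendByZero E φ x := by
    intro x
    by_cases hx : x ∈ E
    · rw [H25.extendByZero_of_mem _ _ hx]; simp [lam', hx, φ]
    · rw [H25.extendByZero_of_notMem _ _ hx]; simp [lam', hx]
  have hconst : ∀ (y : G) (e : E), Cfsg.extendByZero E φ ((y * e)⁻¹ * g * (y * e)) =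
      Cfsg.extendByZero E φ (y⁻¹ * g * y) := by
    intro y e
    by_cases hy : y⁻¹ * g * y ∈ E
    · have h2 : (y * (e : G))⁻¹ * g * (y * e) ∈ E := by
        have := E.mul_mem (E.mul_mem (E.inv_mem e.2) hy) e.2
        simpa [mul_assoc] using this
      rw [H25.extendByZero_of_mem _ _ hy, H25.extendByZero_of_mem _ _ h2]
      have he : (⟨(y * (e : G))⁻¹ * g * (y * e), h2⟩ : E) = e⁻¹ * ⟨y⁻¹ * g * y, hy⟩ * e :=
        Subtype.ext (by simp [mul_assoc])
      simp only [φ, he, map_mul]
      rw [mul_comm (emb (lam e⁻¹)), mul_assoc, ← map_mul emb, ← map_mul lam, inv_mul_cancel,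
        map_one, map_one, mul_one]
    · rw [H25.extendByZero_of_notMem _ _ hy, H25.extendByZero_of_notMem]
      intro h2
      apply hy
      have := E.mul_mem (E.mul_mem e.2 h2) (E.inv_mem e.2)
      simpa [mul_assoc] using this
  rw [← Finset.sum_fiberwise Finset.univ (fun x : G => (x : Q)), Finset.mul_sum]
  refine Finset.sum_congr rfl fun q _ => ?_
  have hfib : ∀ x ∈ Finset.univ.filter (fun x : G => (x : Q) = q),
      Cfsg.extendByZero E φ (x⁻¹ * g * x) = Cfsg.extendByZero E φ ((s q)⁻¹ * g * s q) := by
    intro x hx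
    have hxq : ((s q : G) : Q) = (x : Q) := (hs q).trans (Finset.mem_filter.1 hx).2.symm
    have := hconst (s q) ⟨(s q)⁻¹ * x, QuotientGroup.eq.1 hxq⟩
    simpa using this
  rw [Finset.sum_congr rfl hfib, Finset.sum_const, hφ, nsmul_eq_mul]
  have hcard : (Finset.univ.filter (fun x : G => (x : Q) = q)).card = Nat.card E := by
    rw [Nat.card_eq_fintype_card, ← Finset.card_univ]
    refine Finset.card_bij' (fun x hx => (⟨(s q)⁻¹ * x,
      QuotientGroup.eq.1 ((hs q).trans (Finset.mem_filter.1 hx).2.symm)⟩ : E))
      (fun e _ => s q * e) (fun _ _ => Finset.mem_univ _) (fun e _ => ?_) (fun x _ => by simp)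
      (fun e _ => Subtype.ext (by simp))
    simp [hs]
  rw [hcard, ← mul_assoc, inv_mul_cancel₀ (by exact_mod_cast Nat.card_pos.ne'), one_mul]

/-- Cancelling common constituents: a norm one difference of two `F`-representations is, up to
sign, one `F`-representation. -/
theorem exists_rep_of_norm_one [Fintype G] (emb : F →+* ℂ) [CharZero F] :
    ∀ (N : ℕ) (p q : ℕ) (P : Representation F G (Fin p → F)) (Q : Representation F G (Fin q → F)),
      p + q ≤ N → ∀ χ : Cfsg.IrrCharacter G,
      (∀ g, χ.1 g = emb (P.character g) - emb (Q.character g)) →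
      ∃ (d : ℕ) (R : Representation F G (Fin d → F)), ∀ g, χ.1 g = emb (R.character g) := by
  intro N
  induction N using Nat.strong_induction_on with
  | _ N ih =>
  intro p q P Q hN χ hχ
  classical
  haveI : Invertible (Nat.card G : F) :=
    invertibleOfNonzero (by exact_mod_cast Nat.card_pos.ne')
  haveI : NeZero (Nat.card G : F) := ⟨by exact_mod_cast Nat.card_pos.ne'⟩
  by_cases hhom : ∃ f : Representation.IntertwiningMap Q P, f ≠ 0
  · obtain ⟨f, hf⟩ := hhom
    obtain ⟨P', hP'⟩ := exists_isCompl f.range
    obtain ⟨Q', hQ'⟩ := exists_isCompl f.ker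
    have hP1 : IsCompl f.range.toSubmodule P'.toSubmodule := IsCompl.of_eq
      (congrArg Subrepresentation.toSubmodule hP'.inf_eq_bot)
      (congrArg Subrepresentation.toSubmodule hP'.sup_eq_top)
    have hQ1 : IsCompl f.ker.toSubmodule Q'.toSubmodule := IsCompl.of_eq
      (congrArg Subrepresentation.toSubmodule hQ'.inf_eq_bot)
      (congrArg Subrepresentation.toSubmodule hQ'.sup_eq_top)
    have hsplit : ∀ {n : ℕ} (R : Representation F G (Fin n → F)) (A B : Subrepresentation R),
        IsCompl A.toSubmodule B.toSubmodule → ∀ g,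
        R.character g = A.toRepresentation.character g + B.toRepresentation.character g := by
      intro n R A B hAB g
      have e : (A.toRepresentation.prod B.toRepresentation).Equiv R :=
        .mk (Submodule.prodEquivOfIsCompl _ _ hAB) fun g => LinearMap.ext fun x => by
          simp [Submodule.coe_prodEquivOfIsCompl', Representation.prod, Subrepresentation.toRepresentation]
      rw [← Representation.char_iso e]
      exact LinearMap.trace_prodMap' _ _
    -- the complement of the kernel is isomorphic to the range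
    let φ : Q'.toSubmodule →ₗ[F] f.range.toSubmodule :=
      (f.toLinearMap.domRestrict Q'.toSubmodule).codRestrict _ fun x => ⟨x.1, rfl⟩
    have hφ : Function.Bijective φ := by
      constructor
      · rw [← LinearMap.ker_eq_bot, LinearMap.ker_eq_bot']
        intro x hx
        have h1 : (x : Fin q → F) ∈ f.ker.toSubmodule := congrArg Subtype.val hx
        exact Subtype.ext (Submodule.disjoint_def.1 hQ1.disjoint _ h1 x.2)
      · rintro ⟨y, z, rfl⟩
        obtain ⟨a, ha, b, hb, hab⟩ : ∃ a ∈ f.ker.toSubmodule, ∃ b ∈ Q'.toSubmodule, a + b = z := by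
          rw [← Submodule.mem_sup, hQ1.sup_eq_top]; trivial
        refine ⟨⟨b, hb⟩, Subtype.ext ?_⟩
        show f.toLinearMap b = f.toLinearMap z
        rw [← hab, map_add, show f.toLinearMap a = 0 from ha, zero_add]
    have hiso : Q'.toRepresentation.character = f.range.toRepresentation.character :=
      Representation.char_iso (.mk (LinearEquiv.ofBijective φ hφ) fun g => LinearMap.ext fun x =>
        Subtype.ext (Representation.IntertwiningMap.isIntertwining _ _ f g x.1))
    have hpos : 0 < finrank F f.range.toSubmodule := by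
      rw [Module.finrank_pos_iff_exists_ne_zero]
      obtain ⟨v, hv⟩ : ∃ v, f.toLinearMap v ≠ 0 := by
        by_contra h
        push_neg at h
        exact hf (DFunLike.ext _ _ fun v => h v)
      exact ⟨⟨_, v, rfl⟩, fun h => hv (congrArg Subtype.val h)⟩
    have hdim := Submodule.finrank_add_eq_of_isCompl hP1
    have hdim2 := Submodule.finrank_le f.ker.toSubmodule
    simp only [Module.finrank_fintype_fun_eq_card, Fintype.card_fin] at hdim hdim2
    -- representations on coordinate spaces
    have hfin : ∀ {W : Type _} [AddCommGroup W] [Module F W] [FiniteDimensional F W]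
        (R : Representation F G W), ∃ R' : Representation F G (Fin (finrank F W) → F),
          R'.character = R.character := by
      intro W _ _ _ R
      refine ⟨(LinearEquiv.conjRingEquiv (finBasis F W).equivFun).toMonoidHom.comp R, funext fun g => ?_⟩
      exact LinearMap.trace_conj' (R g) _
    obtain ⟨P₁, hP₁⟩ := hfin P'.toRepresentation
    obtain ⟨Q₁, hQ₁⟩ := hfin f.ker.toRepresentation
    refine ih (finrank F P'.toSubmodule + finrank F f.ker.toSubmodule) (by omega) _ _ P₁ Q₁ le_rfl χ
      fun g => ?_
    rw [hχ g, hsplit P f.range P' hP1 g, hsplit Q f.ker Q' hQ1 g, hiso, hP₁, hQ₁, map_add, map_add]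
    ring
  push_neg at hhom
  -- no common constituent
  haveI : Subsingleton (Representation.IntertwiningMap Q P) :=
    ⟨fun a b => (hhom a).trans (hhom b).symm⟩
  have hzero : ∑ g : G, P.character g * Q.character g⁻¹ = 0 := by
    have h := Representation.card_inv_mul_sum_char_mul_char_eq_finrank Q P
    rw [Module.finrank_zero_of_subsingleton, Nat.cast_zero, mul_eq_zero] at h
    exact h.resolve_left (inv_ne_zero (by exact_mod_cast Nat.card_pos.ne'))
  have hzero' : ∑ g : G, Q.character g * P.character g⁻¹ = 0 := by
    rw [← hzero]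
    refine Fintype.sum_equiv (Equiv.inv G) _ _ fun g => ?_
    simp [mul_comm]
  have hself : ∀ {n : ℕ} (R : Representation F G (Fin n → F)), ∃ k : ℕ,
      (Nat.card G : F) * (k : F) = ∑ g : G, R.character g * R.character g⁻¹ ∧ (k = 0 → n = 0) := by
    intro n R
    refine ⟨finrank F (Representation.IntertwiningMap R R), ?_, fun h0 => ?_⟩
    · rw [← Representation.card_inv_mul_sum_char_mul_char_eq_finrank R R,
        mul_inv_cancel_left₀ (by exact_mod_cast Nat.card_pos.ne')]
    · by_contra hn
      haveI : Subsingleton (Representation.IntertwiningMap R R) := Module.finrank_zero_iff.1 h0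
      have h1 := DFunLike.congr_fun
        (Subsingleton.elim (Representation.IntertwiningMap.id (ρ := R)) 0) (fun _ => (1 : F))
      exact one_ne_zero (congrFun (h1 : (fun _ => (1 : F)) = (0 : Fin n → F)) ⟨0, Nat.pos_of_ne_zero hn⟩)
  obtain ⟨a, ha, ha0⟩ := hself P
  obtain ⟨b, hb, hb0⟩ := hself Q
  have hnorm : ∑ g : G, χ.1 g * χ.1 g⁻¹ = (Nat.card G : ℂ) := by
    have h := H57.irr_inner_self χ.2
    rw [Cfsg.classInner, inv_mul_eq_iff_eq_mul₀ (by exact_mod_cast Nat.card_pos.ne'), mul_one] at h
    rw [← h]
    exact Finset.sum_congr rfl fun g _ => by rw [H26.irr_inv χ g]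
  have hab : a + b = 1 := by
    have h2 : emb ((Nat.card G : F) * ((a + b : ℕ) : F)) = (Nat.card G : ℂ) := by
      have e : (Nat.card G : F) * ((a + b : ℕ) : F) =
          ∑ g : G, (P.character g - Q.character g) * (P.character g⁻¹ - Q.character g⁻¹) := by
        simp only [sub_mul, mul_sub, Finset.sum_sub_distrib, hzero, hzero', ← ha, ← hb, Nat.cast_add]
        ring
      rw [e, map_sum, ← hnorm]
      exact Finset.sum_congr rfl fun g _ => by rw [hχ g, hχ g⁻¹, map_mul, map_sub, map_sub]
    rw [map_mul, map_natCast, map_natCast] at h2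
    have := mul_left_cancel₀ (by exact_mod_cast Nat.card_pos.ne') (h2.trans (mul_one _).symm)
    exact_mod_cast this
  rcases Nat.eq_zero_or_pos b with hb' | hb'
  · refine ⟨p, P, fun g => ?_⟩
    have hq := hb0 hb'
    subst hq
    rw [hχ g, show Q.character g = 0 from by
      simp [Representation.character, Subsingleton.elim (Q g) 0], map_zero, sub_zero]
  · exfalso
    have hp := ha0 (by omega)
    subst hp
    obtain ⟨m, hm, hm1⟩ := H57.irr_degree χ.2
    have := hχ 1
    rw [hm1, Representation.char_one, Representation.char_one, map_natCast, map_natCast] at this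
    simp only [Module.finrank_fintype_fun_eq_card, Fintype.card_fin, Nat.cast_zero, zero_sub] at this
    have h3 : ((m + q : ℕ) : ℂ) = 0 := by push_cast; linear_combination this
    have : m + q = 0 := by exact_mod_cast h3
    omega

end Rational

/-- Brauer's splitting field theorem. -/
theorem exists_equiv_adjoin {G : Type u} [Group G] [Fintype G] (n : ℕ)
    (ρ : Representation ℂ G (Fin n → ℂ)) :
    ∃ σ : Representation ℂ G (Fin n → ℂ), Nonempty (ρ.Equiv σ) ∧ ∀ g : G, ∀ i j : Fin n,
      LinearMap.toMatrix' (σ g) i j ∈ Algebra.adjoin ℚ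
        ({Complex.exp (2 * Real.pi * Complex.I / (Monoid.exponent G : ℂ))} : Set ℂ) := by
  classical
  set m := Monoid.exponent G with hm
  haveI : NeZero m := ⟨Monoid.exponent_ne_zero_of_finite⟩
  set ω := Complex.exp (2 * Real.pi * Complex.I / (m : ℂ)) with hω
  have hprim : IsPrimitiveRoot ω m := Complex.isPrimitiveRoot_exp m (NeZero.ne m)
  let K := IntermediateField.adjoin ℚ ({ω} : Set ℂ)
  have hK : K.toSubalgebra = Algebra.adjoin ℚ ({ω} : Set ℂ) :=
    IntermediateField.adjoin_simple_toSubalgebra_of_isAlgebraic
      ((hprim.isIntegral (NeZero.pos m)).tower_top (A := ℚ)).isAlgebraic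
  let emb : K →+* ℂ := algebraMap K ℂ
  let Virt : AddSubgroup (G → ℂ) :=
    { carrier := {χ | ∃ (p q : ℕ) (P : Representation K G (Fin p → K))
          (Q : Representation K G (Fin q → K)), ∀ g, χ g = emb (P.character g) - emb (Q.character g)}
      zero_mem' := ⟨0, 0, 1, 1, fun g => by simp⟩
      neg_mem' := by
        rintro χ ⟨p, q, P, Q, h⟩
        exact ⟨q, p, Q, P, fun g => by simp [h g]⟩
      add_mem' := by
        rintro χ ψ ⟨p, q, P, Q, h⟩ ⟨p', q', P', Q', h'⟩
        let e1 := (finBasis K ((Fin p → K) × (Fin p' → K))).equivFun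
        let e2 := (finBasis K ((Fin q → K) × (Fin q' → K))).equivFun
        refine ⟨_, _, (LinearEquiv.conjRingEquiv e1).toMonoidHom.comp (P.prod P'),
          (LinearEquiv.conjRingEquiv e2).toMonoidHom.comp (Q.prod Q'), fun g => ?_⟩
        have t1 : Representation.character ((LinearEquiv.conjRingEquiv e1).toMonoidHom.comp (P.prod P')) g
            = P.character g + P'.character g :=
          (LinearMap.trace_conj' ((P.prod P') g) e1).trans (LinearMap.trace_prodMap' _ _)
        have t2 : Representation.character ((LinearEquiv.conjRingEquiv e2).toMonoidHom.comp (Q.prod Q')) g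
            = Q.character g + Q'.character g :=
          (LinearMap.trace_conj' ((Q.prod Q') g) e2).trans (LinearMap.trace_prodMap' _ _)
        rw [Pi.add_apply, h g, h' g, t1, t2, map_add, map_add]
        ring }
  have hgen : monoSpan (fun E : Subgroup G => ∃ p : ℕ, p.Prime ∧ Cfsg.IsElementary p E) ≤ Virt := by
    refine (AddSubgroup.closure_le _).2 ?_
    rintro F ⟨E, φ, -, rfl⟩
    have hval : ∀ e : E, ((φ e : ℂˣ) : ℂ) ∈ K := by
      intro e
      have h1 : ((φ e : ℂˣ) : ℂ) ^ m = 1 := by
        have h0 : e ^ m = 1 := Subtype.ext (by simp [hm, Monoid.pow_exponent_eq_one])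
        rw [← Units.val_pow_eq_pow_val, ← map_pow, h0, map_one, Units.val_one]
      obtain ⟨i, -, hi⟩ := hprim.eq_pow_of_pow_eq_one h1
      exact hi ▸ pow_mem (IntermediateField.mem_adjoin_simple_self ℚ ω) i
    let lam : E →* K :=
      { toFun := fun e => ⟨_, hval e⟩
        map_one' := Subtype.ext (by simp)
        map_mul' := fun a b => Subtype.ext (by simp) }
    obtain ⟨d, P, hP⟩ := exists_monomial E lam emb
    refine ⟨d, 0, P, 1, fun g => ?_⟩
    rw [hP g, show Representation.character (1 : Representation K G (Fin 0 → K)) g = 0 from by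
      simp [Representation.character], map_zero, sub_zero]
    rfl
  have hirr : ∀ χ : Cfsg.IrrCharacter G, ∃ (d : ℕ) (R : Representation K G (Fin d → K)),
      ∀ g, χ.1 g = emb (R.character g) := by
    intro χ
    obtain ⟨p, q, P, Q, h⟩ := hgen (character_mem_monoSpan_elementary (H26.irr_isCharacter χ))
    exact exists_rep_of_norm_one emb _ p q P Q le_rfl χ h
  have hall : ∀ s : Multiset (Cfsg.IrrCharacter G), ∃ (d : ℕ) (R : Representation K G (Fin d → K)),
      ∀ g, (s.map fun χ : Cfsg.IrrCharacter G => χ.1).sum g = emb (R.character g) := by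
    intro s
    induction s using Multiset.induction_on with
    | empty => exact ⟨0, 1, fun g => by simp [Representation.character]⟩
    | cons χ s ih =>
      obtain ⟨d, R, hR⟩ := ih
      obtain ⟨c, S, hS⟩ := hirr χ
      let e := (finBasis K ((Fin c → K) × (Fin d → K))).equivFun
      refine ⟨_, (LinearEquiv.conjRingEquiv e).toMonoidHom.comp (S.prod R), fun g => ?_⟩
      have t : Representation.character ((LinearEquiv.conjRingEquiv e).toMonoidHom.comp (S.prod R)) g
          = S.character g + R.character g :=
        (LinearMap.trace_conj' ((S.prod R) g) e).trans (LinearMap.trace_prodMap' _ _)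
      rw [Multiset.map_cons, Multiset.sum_cons, Pi.add_apply, hS g, hR g, t, map_add]
  obtain ⟨s, hs⟩ := H26.exists_multiset_irr ρ
  obtain ⟨d, R, hR⟩ := hall s
  rw [← hs] at hR
  have hdn : d = n := by
    have h := hR 1
    rw [ρ.char_one, R.char_one, map_natCast, Nat.cast_inj] at h
    simpa using h.symm
  subst hdn
  let A : G →* Matrix (Fin d) (Fin d) ℂ :=
    (emb.mapMatrix : Matrix (Fin d) (Fin d) K →+* _).toMonoidHom.comp
      (LinearMap.toMatrixAlgEquiv'.toMonoidHom.comp R)
  let σ : Representation ℂ G (Fin d → ℂ) := Matrix.toLinAlgEquiv'.toMonoidHom.comp A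
  refine ⟨σ, H26.nonempty_equiv_of_char_eq ρ σ (funext fun g => ?_), fun g i j => ?_⟩
  · rw [hR g]
    show emb (LinearMap.trace K _ (R g)) = LinearMap.trace ℂ _ (Matrix.toLin' (A g))
    rw [Matrix.trace_toLin'_eq, LinearMap.trace_eq_matrix_trace K (Pi.basisFun K (Fin d)),
      LinearMap.toMatrix_eq_toMatrix']
    exact AddMonoidHom.map_trace emb.toAddMonoidHom _
  · rw [← hK]
    show LinearMap.toMatrix' (Matrix.toLin' (A g)) i j ∈ K.toSubalgebra
    rw [LinearMap.toMatrix'_toLin']
    exact (LinearMap.toMatrix' (R g) i j).2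

end Cfsg.Agent.H27
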