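import Mathlib

/-!
The numerical contradiction at the end of the CN-theorem.
-/

set_option autoImplicit false

namespace Cfsg.Agent.H27

open Finset in
/-- The numerical contradiction from the row bound, the column bound, the tournament property and
the covering bound. -/
theorem cn_arith {ι : Type*} [Fintype ι] [DecidableEq ι] [Nonempty ι] (e s m : ι → ℕ) (g : ℕ)
    (c : ι → ι → ℤ) (he : ∀ i, 3 ≤ e i) (heo : ∀ i, Odd (e i)) (hs : ∀ i, 2 ≤ s i)
    (hse : ∀ i, Even (s i)) (hdvd : ∀ i, s i * e i + 1 ∣ m i) (hm : ∀ i, 0 < m i)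
    (hprime : ∀ i, (s i * e i + 1).Prime → m i = s i * e i + 1)
    (hcop : ∀ i j, i ≠ j → (m i).Coprime (m j))
    (hrow : ∀ j, (g : ℝ)⁻¹ +
        ∑ i ∈ univ.erase j, (s i : ℝ) * (c j i : ℝ) ^ 2 / ((s i * e i + 1 : ℕ) : ℝ) ≤
      (e j : ℝ) / ((s j * e j + 1 : ℕ) : ℝ))
    (hcol : ∀ i, ∑ j ∈ univ.erase i, (s j : ℝ) * (c j i : ℝ) ^ 2 ≤ (e i : ℝ) - 1)
    (htour : ∀ i j, i ≠ j → c i j ≠ 0 ∨ c j i ≠ 0)
    (hcov : 1 - (g : ℝ)⁻¹ ≤ ∑ i, (1 - (m i : ℝ)⁻¹) / (e i : ℝ)) : False := by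
  obtain ⟨i₀, hmin⟩ := Finite.exists_min e
  set E : ℝ := (e i₀ : ℝ) with hE
  set lam : ℝ := (2 * E + 1) / (2 * E) with hlam
  have hE3 : (3 : ℝ) ≤ E := by rw [hE]; exact_mod_cast he i₀
  have hEpos : 0 < E := by linarith
  have hlam0 : 0 ≤ lam := by rw [hlam]; positivity
  have hlam1 : 1 ≤ lam := by rw [hlam, le_div_iff₀ (by positivity)]; linarith
  have hW : ∀ i, (1 - (m i : ℝ)⁻¹) / (e i : ℝ) ≤ 1 / (e i : ℝ) := fun i =>
    div_le_div_of_nonneg_right (by simp) (Nat.cast_nonneg _)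
  -- the other families
  have hmain : ∀ D : ℕ, 0 < D → (∀ i, i ≠ i₀ → D ≤ s i * e i) →
      (1 - (m i₀ : ℝ)⁻¹) / E + lam * (E / ((s i₀ * e i₀ + 1 : ℕ) : ℝ)) + (E - 1) / (D : ℝ) < 1 →
      False := by
    intro D hD hDle hfin
    have hDr : (0 : ℝ) < D := by exact_mod_cast hD
    have hpt : ∀ i ∈ univ.erase i₀, (1 - (m i : ℝ)⁻¹) / (e i : ℝ) ≤
        lam * ((s i : ℝ) * (c i₀ i : ℝ) ^ 2 / ((s i * e i + 1 : ℕ) : ℝ)) +
          (1 / (D : ℝ)) * ((s i : ℝ) * (c i i₀ : ℝ) ^ 2) := by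
      intro i hi
      have hne : i ≠ i₀ := (mem_erase.1 hi).1
      have hei : (0 : ℝ) < e i := by exact_mod_cast (by have := he i; omega : 0 < e i)
      have hEi : E ≤ (e i : ℝ) := by rw [hE]; exact_mod_cast hmin i
      have hsi : (2 : ℝ) ≤ s i := by exact_mod_cast hs i
      have hout0 : (0 : ℝ) ≤ lam * ((s i : ℝ) * (c i₀ i : ℝ) ^ 2 / ((s i * e i + 1 : ℕ) : ℝ)) := by
        positivity
      have hin0 : (0 : ℝ) ≤ (1 / (D : ℝ)) * ((s i : ℝ) * (c i i₀ : ℝ) ^ 2) := by positivity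
      refine (hW i).trans ?_
      rcases htour i₀ i (Ne.symm hne) with h | h
      · have h1 : (1 : ℝ) ≤ (c i₀ i : ℝ) ^ 2 := by exact_mod_cast (pow_two_pos_of_ne_zero h : (0:ℤ) < (c i₀ i) ^ 2)
        refine le_trans ?_ (le_add_of_nonneg_right hin0)
        have h2 : 1 / (e i : ℝ) ≤ lam * ((s i : ℝ) * 1 / ((s i * e i + 1 : ℕ) : ℝ)) := by
          push_cast
          rw [hlam, div_mul_div_comm, div_le_div_iff₀ hei (by positivity)]
          nlinarith [mul_le_mul hsi hEi hEpos.le (by linarith : (0 : ℝ) ≤ (s i : ℝ))]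
        refine h2.trans ?_
        gcongr
      · have h1 : (1 : ℝ) ≤ (c i i₀ : ℝ) ^ 2 := by exact_mod_cast (pow_two_pos_of_ne_zero h : (0:ℤ) < (c i i₀) ^ 2)
        refine le_trans ?_ (le_add_of_nonneg_left hout0)
        have h2 : 1 / (e i : ℝ) ≤ (1 / (D : ℝ)) * ((s i : ℝ) * 1) := by
          rw [mul_one, one_div_mul_eq_div, div_le_div_iff₀ hei hDr, one_mul]
          exact_mod_cast hDle i hne
        refine h2.trans ?_
        gcongr
    have hsum := Finset.sum_le_sum hpt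
    rw [Finset.sum_add_distrib, ← Finset.mul_sum, ← Finset.mul_sum] at hsum
    rw [← Finset.add_sum_erase univ _ (mem_univ i₀)] at hcov
    have h1 := hrow i₀
    have h2 := hcol i₀
    have hg : (0 : ℝ) ≤ (g : ℝ)⁻¹ := by positivity
    have h3 : lam * ∑ i ∈ univ.erase i₀, (s i : ℝ) * (c i₀ i : ℝ) ^ 2 / ((s i * e i + 1 : ℕ) : ℝ) ≤
        lam * (E / ((s i₀ * e i₀ + 1 : ℕ) : ℝ)) - (g : ℝ)⁻¹ := by
      have := mul_le_mul_of_nonneg_left (show ∑ i ∈ univ.erase i₀,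
        (s i : ℝ) * (c i₀ i : ℝ) ^ 2 / ((s i * e i + 1 : ℕ) : ℝ) ≤
          E / ((s i₀ * e i₀ + 1 : ℕ) : ℝ) - (g : ℝ)⁻¹ by linarith) hlam0
      have h4 : (g : ℝ)⁻¹ ≤ lam * (g : ℝ)⁻¹ := le_mul_of_one_le_left hg hlam1
      linarith [mul_sub lam (E / ((s i₀ * e i₀ + 1 : ℕ) : ℝ)) ((g : ℝ)⁻¹)]
    have h5 : (1 / (D : ℝ)) * ∑ i ∈ univ.erase i₀, (s i : ℝ) * (c i i₀ : ℝ) ^ 2 ≤
        (E - 1) / (D : ℝ) := by
      rw [one_div_mul_eq_div]
      exact div_le_div_of_nonneg_right h2 hDr.le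
    linarith
  have hW0 : (1 - (m i₀ : ℝ)⁻¹) / E ≤ 1 / E := hW i₀
  rcases Nat.lt_or_ge (s i₀) 4 with hs0 | hs0
  · have hs2 : s i₀ = 2 := by
      obtain ⟨j, hj⟩ := hse i₀
      have := hs i₀
      omega
    refine hmain (2 * (e i₀ + 2)) (by omega) (fun i hi => ?_) ?_
    · have h1 := hmin i
      have h2 := he i₀
      rcases Nat.lt_or_ge (s i) 4 with h4 | h4
      · have hsi : s i = 2 := by
          obtain ⟨j, hj⟩ := hse i
          have := hs i
          omega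
        rw [hsi]
        rcases eq_or_ne (e i) (e i₀) with h5 | h5
        · exfalso
          have h6 : s i * e i + 1 ∣ m i₀ := by rw [hsi, h5, ← hs2]; exact hdvd i₀
          have h7 := Nat.eq_one_of_dvd_coprimes (hcop i i₀ hi) (hdvd i) h6
          have := he i
          rw [hsi] at h7
          omega
        · obtain ⟨j, hj⟩ := heo i
          obtain ⟨k, hk⟩ := heo i₀
          omega
      · nlinarith
    · have ha : lam * (E / ((s i₀ * e i₀ + 1 : ℕ) : ℝ)) = 1 / 2 := by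
        rw [hs2, hlam]
        push_cast
        rw [← hE]
        field_simp
      rw [ha]
      rcases eq_or_ne (e i₀) 3 with h3 | h3
      · have hm0 : m i₀ = 7 := by
          have := hprime i₀ (by rw [hs2, h3]; norm_num)
          rwa [hs2, h3] at this
        rw [hE, h3, hm0]
        norm_num
      · have h5 : (5 : ℝ) ≤ E := by
          obtain ⟨j, hj⟩ := heo i₀
          have := he i₀
          rw [hE]
          exact_mod_cast (by omega : 5 ≤ e i₀)
        push_cast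
        rw [← hE]
        have h6 : 1 / E + (E - 1) / (2 * (E + 2)) < 1 / 2 := by
          rw [div_add_div _ _ hEpos.ne' (by positivity), div_lt_div_iff₀ (by positivity) (by norm_num)]
          nlinarith
        linarith
  · refine hmain (2 * e i₀) (by have := he i₀; omega) (fun i _ => Nat.mul_le_mul (hs i) (hmin i)) ?_
    have ha : lam * (E / ((s i₀ * e i₀ + 1 : ℕ) : ℝ)) ≤ (2 * E + 1) / (2 * (4 * E + 1)) := by
      have h1 : (4 * E + 1 : ℝ) ≤ ((s i₀ * e i₀ + 1 : ℕ) : ℝ) := by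
        rw [hE]
        exact_mod_cast Nat.add_le_add_right (Nat.mul_le_mul_right (e i₀) hs0) 1
      have h2 : lam * (E / ((s i₀ * e i₀ + 1 : ℕ) : ℝ)) ≤ lam * (E / (4 * E + 1)) := by gcongr
      refine h2.trans (le_of_eq ?_)
      rw [hlam]
      field_simp
    have h3 : (2 * E + 1) / (2 * (4 * E + 1)) < 1 / 3 := by
      rw [div_lt_div_iff₀ (by positivity) (by norm_num)]
      linarith
    have h4 : 1 / E + (E - 1) / ((2 * e i₀ : ℕ) : ℝ) ≤ 2 / 3 := by
      push_cast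
      rw [← hE, div_add_div _ _ hEpos.ne' (by positivity), div_le_div_iff₀ (by positivity) (by norm_num)]
      nlinarith
    linarith

end Cfsg.Agent.H27
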