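import Cfsg.Agent.H27.CNDual
import Cfsg.Agent.H27.CNArith
import Cfsg.Agent.H27.Exceptional
import Cfsg.Agent.H26.CharFS

/-!
The character-theoretic contradiction for a covering family of TI kernels in a group of odd order.
-/

set_option autoImplicit false

open scoped ComplexConjugate

namespace Cfsg.Agent.H27

universe u

variable {G : Type u} [Group G] [Fintype G]

/-- Bessel's inequality for an irreducible character against an orthogonal family. -/
theorem bessel_le_one {τ : Type*} [Fintype τ] [DecidableEq τ] (θ : G → ℂ) (f : τ → G → ℂ)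
    (b n : τ → ℝ) (hθ : Cfsg.classInner θ θ = 1) (hn : ∀ t, 0 < n t)
    (hb : ∀ t, Cfsg.classInner (f t) θ = (b t : ℂ))
    (horth : ∀ t u, Cfsg.classInner (f t) (f u) = if t = u then (n t : ℂ) else 0) :
    ∑ t, b t ^ 2 / n t ≤ 1 := by
  set P : G → ℂ := ∑ t, ((b t / n t : ℝ) : ℂ) • f t with hP
  have hPθ : Cfsg.classInner P θ = ((∑ t, b t ^ 2 / n t : ℝ) : ℂ) := by
    rw [hP, H26.classInner_sum_left, Complex.ofReal_sum]
    refine Finset.sum_congr rfl fun t _ => ?_
    rw [H26.classInner_smul_left, hb, ← Complex.ofReal_mul]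
    congr 1
    ring
  have hθP : Cfsg.classInner θ P = ((∑ t, b t ^ 2 / n t : ℝ) : ℂ) := by
    rw [← H25.conj_classInner, hPθ, Complex.conj_ofReal]
  have hPP : Cfsg.classInner P P = ((∑ t, b t ^ 2 / n t : ℝ) : ℂ) := by
    rw [hP, H26.classInner_sum_left, Complex.ofReal_sum]
    refine Finset.sum_congr rfl fun t _ => ?_
    rw [H26.classInner_smul_left, H26.classInner_sum_right, Finset.sum_eq_single t]
    · rw [H26.classInner_smul_right, horth, if_pos rfl, Complex.conj_ofReal, ← Complex.ofReal_mul,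
        ← Complex.ofReal_mul]
      congr 1
      have := (hn t).ne'
      field_simp
    · intro u _ hu
      rw [H26.classInner_smul_right, horth, if_neg (Ne.symm hu), mul_zero]
    · simp
  have h := H57.inner_self_re_nonneg (θ - P)
  rw [H26.classInner_sub_left, H26.classInner_sub_right, H26.classInner_sub_right, hθ, hPθ, hθP,
    hPP] at h
  simp only [Complex.sub_re, Complex.one_re, Complex.ofReal_re, sub_self, sub_zero] at h
  linarith

/-- Functions with disjoint supports are orthogonal. -/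
theorem classInner_eq_zero_of_disjoint {φ ψ : G → ℂ} (h : ∀ x, φ x ≠ 0 → ψ x = 0) :
    Cfsg.classInner φ ψ = 0 := by
  simp only [Cfsg.classInner, mul_eq_zero]
  refine Or.inr (Finset.sum_eq_zero fun x _ => ?_)
  by_cases hx : φ x = 0
  · simp [hx]
  · simp [h x hx]

/-- Complex conjugation of irreducible characters. -/
noncomputable def conjIrr (χ : Cfsg.IrrCharacter G) : Cfsg.IrrCharacter G :=
  ⟨Cfsg.conjFun χ.1, H57.irr_conjFun χ.2⟩

/-- `conjIrr` is an involution. -/
theorem conjIrr_conjIrr (χ : Cfsg.IrrCharacter G) : conjIrr (conjIrr χ) = χ :=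
  Subtype.ext (funext fun g => by simp [conjIrr, Cfsg.conjFun])

/-- A self-conjugate irreducible character of an odd-order group is principal. -/
theorem eq_one_of_conjIrr (hodd : Odd (Nat.card G)) {χ : Cfsg.IrrCharacter G} (h : conjIrr χ = χ) :
    χ = H26.oneIrr G :=
  H26.real_irr_eq_one_of_odd hodd χ fun g =>
    Complex.conj_eq_iff_im.1 (congrFun (congrArg Subtype.val h) g)

/-- The principal character is self-conjugate. -/
theorem conjIrr_one : conjIrr (H26.oneIrr G) = H26.oneIrr G :=
  Subtype.ext (funext fun g => by simp [conjIrr, Cfsg.conjFun, H26.oneIrr_val])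

/-- The coefficient data of one kernel: exceptional characters and integral coefficients. -/
structure ExcData {M : Subgroup G} (D : KernelData G M) where
  ε : ℤ
  θ : Fin D.s → Cfsg.IrrCharacter G
  co : Fin D.s → Cfsg.IrrCharacter G → ℤ
  cc : ℤ
  eps_sq : ε * ε = 1
  inj : Function.Injective θ
  diff : ∀ k l, D.α k - D.α l = (ε : ℂ) • ((θ k).1 - (θ l).1)
  conj_θ : ∀ k, conjIrr (θ k) = θ (D.bar k)
  co_spec : ∀ k χ, Cfsg.classInner (D.α k) χ.1 = (co k χ : ℂ)
  co_const : ∀ k l χ, (∀ j, θ j ≠ χ) → co k χ = co l χ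
  co_conj : ∀ k χ, co (D.bar k) (conjIrr χ) = co k χ
  co_one : ∀ k, co k (H26.oneIrr G) = 1
  co_self : ∀ k l, co k (θ l) = cc + if k = l then ε else 0
  θ_ne_one : ∀ k, θ k ≠ H26.oneIrr G

/-- Exceptional characters of a kernel. -/
theorem exists_excData {M : Subgroup G} (D : KernelData G M) : Nonempty (ExcData D) := by
  classical
  let z : Fin D.s := ⟨0, by have := D.two_le; omega⟩
  obtain ⟨ε', hε', μ, hμ, hμinj, hτ⟩ := exists_exceptional z (fun k => D.α z - D.α k) (sub_self _)
    (fun k => H57.gen_sub (D.gen z) (D.gen k))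
    (fun k => by
      have h : ∀ j, D.α j 1 = 0 := fun j => by_contra fun h => (D.supp j 1 h).1 rfl
      simp [h])
    (fun i j hi hj => by
      rw [H26.classInner_sub_left, H26.classInner_sub_right, H26.classInner_sub_right, D.gram,
        D.gram, D.gram, D.gram, if_pos rfl, if_neg (Ne.symm hj), if_neg hi]
      split_ifs <;> ring)
  obtain ⟨ε, hεc, hεsq⟩ : ∃ ε : ℤ, -ε' = (ε : ℂ) ∧ ε * ε = 1 := by
    rcases hε' with rfl | rfl
    · exact ⟨-1, by simp, by norm_num⟩
    · exact ⟨1, by simp, by norm_num⟩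
  let θ : Fin D.s → Cfsg.IrrCharacter G := fun k => ⟨μ k, hμ k⟩
  have hinj : Function.Injective θ := fun a b h => hμinj (congrArg Subtype.val h)
  have hdiff : ∀ k l, D.α k - D.α l = (ε : ℂ) • ((θ k).1 - (θ l).1) := by
    intro k l
    rw [← sub_sub_sub_cancel_left (D.α l) (D.α k) (D.α z), hτ l, hτ k, ← hεc, neg_smul,
      ← smul_sub, ← smul_neg, neg_sub, sub_sub_sub_cancel_right]
  choose co hco using fun k (χ : Cfsg.IrrCharacter G) =>
    H57.gen_inner_int (D.gen k) (H57.gen_of_irr χ.2)
  have hεne : (ε : ℂ) ≠ 0 := by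
    intro h
    have h' : ε = 0 := by exact_mod_cast h
    rw [h'] at hεsq
    norm_num at hεsq
  have hdd : ∀ k l χ, co k χ - co l χ =
      ε * ((if θ k = χ then 1 else 0) - (if θ l = χ then 1 else 0)) := by
    intro k l χ
    have h := congrArg (fun f => Cfsg.classInner f χ.1) (hdiff k l)
    simp only [H26.classInner_sub_left, H26.classInner_smul_left, hco, H26.classInner_irr] at h
    apply Int.cast_injective (α := ℂ)
    push_cast
    exact h
  have hconjθ : ∀ k, conjIrr (θ k) = θ (D.bar k) := by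
    intro k
    have h1 : Cfsg.conjFun (D.α k - D.α (D.bar k)) =
        (ε : ℂ) • ((conjIrr (θ k)).1 - (conjIrr (θ (D.bar k))).1) := by
      rw [hdiff]
      funext g
      simp [Cfsg.conjFun, conjIrr]
    have h2 : Cfsg.conjFun (D.α k - D.α (D.bar k)) = D.α (D.bar k) - D.α (D.bar (D.bar k)) := by
      funext g
      have e1 := congrFun (D.conj_α k) g
      have e2 := congrFun (D.conj_α (D.bar k)) g
      simp only [Cfsg.conjFun, Pi.sub_apply, map_sub] at e1 e2 ⊢
      rw [e1, e2]
    rw [h2, hdiff] at h1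
    have h3 : (θ (D.bar k)).1 - (θ (D.bar (D.bar k))).1 =
        (conjIrr (θ k)).1 - (conjIrr (θ (D.bar k))).1 := smul_right_injective _ hεne h1
    have h4 := congrArg (fun f => Cfsg.classInner f (conjIrr (θ k)).1) h3
    have hne : conjIrr (θ (D.bar k)) ≠ conjIrr (θ k) := fun e => D.bar_ne k (hinj (by
      rw [← conjIrr_conjIrr (θ (D.bar k)), e, conjIrr_conjIrr]))
    simp only [H26.classInner_sub_left, H26.classInner_irr, if_true, if_neg hne] at h4
    by_contra hcontra
    rw [if_neg (Ne.symm hcontra)] at h4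
    split_ifs at h4 <;> norm_num at h4
  have hconst : ∀ k l χ, (∀ j, θ j ≠ χ) → co k χ = co l χ := by
    intro k l χ h
    have := hdd k l χ
    rw [if_neg (h k), if_neg (h l), sub_zero, mul_zero] at this
    linarith
  refine ⟨⟨ε, θ, co, co z (θ z) - ε, hεsq, hinj, hdiff, hconjθ, hco, hconst, ?_, ?_, ?_, ?_⟩⟩
  · intro k χ
    apply Int.cast_injective (α := ℂ)
    rw [← hco, ← hco, ← D.conj_α k]
    show Cfsg.classInner (Cfsg.conjFun (D.α k)) (Cfsg.conjFun χ.1) = _
    rw [H57.classInner_conjFun, hco, map_intCast]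
  · intro k
    apply Int.cast_injective (α := ℂ)
    rw [← hco, D.inner_one, Int.cast_one]
  · intro k l
    -- independence of the second index
    have hsecond : co z (θ l) - (if z = l then ε else 0) = co z (θ z) - ε := by
      have h := congrArg (fun f => Cfsg.classInner (D.α z) f) (hdiff l z)
      simp only [H26.classInner_sub_right, H26.classInner_smul_right, map_intCast, hco, D.gram,
        if_true] at h
      have h' : (if z = l then (1 : ℤ) else 0) - 1 = ε * (co z (θ l) - co z (θ z)) := by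
        apply Int.cast_injective (α := ℂ)
        push_cast
        linear_combination h
      have h'' : ε * ((if z = l then (1 : ℤ) else 0) - 1) = co z (θ l) - co z (θ z) := by
        rw [h', ← mul_assoc, hεsq, one_mul]
      split_ifs at h'' ⊢ <;> linarith
    have h := hdd k z (θ l)
    simp only [hinj.eq_iff] at h
    split_ifs at h hsecond ⊢ <;> linarith
  · intro k h
    have h1 : θ (D.bar k) = θ k := by rw [← hconjθ k, h, conjIrr_one]
    exact D.bar_ne k (hinj h1)

/-- The character-theoretic contradiction: a group of odd order has no covering family of TI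
kernels of pairwise coprime orders. -/
theorem cn_family_false (hodd : Odd (Nat.card G)) {ι : Type*} [Fintype ι] [Nonempty ι]
    (M : ι → Subgroup G) (hK : ∀ i, TIKernel (M i))
    (hcop : ∀ i j, i ≠ j → (Nat.card (M i)).Coprime (Nat.card (M j)))
    (hcov : ∀ x : G, x ≠ 1 → ∃ i, ∃ g : G, g * x * g⁻¹ ∈ M i) : False := by
  classical
  have D : ∀ i, KernelData G (M i) := fun i => (exists_kernelData (hK i) hodd).some
  have E : ∀ i, ExcData (D i) := fun i => (exists_excData (D i)).some
  let z : ∀ i, Fin (D i).s := fun i => ⟨0, by have := (D i).two_le; omega⟩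
  have hzero1 : ∀ i k, (D i).α k 1 = 0 := fun i k => by_contra fun h => ((D i).supp k 1 h).1 rfl
  have hsep : ∀ i j, i ≠ j → ∀ k l x, (D i).α k x ≠ 0 → (D j).α l x = 0 := by
    intro i j hij k l x hx
    by_contra h
    obtain ⟨h1, a, ha⟩ := (D i).supp k x hx
    obtain ⟨-, b, hb⟩ := (D j).supp l x h
    have ea : orderOf (a * x * a⁻¹) = orderOf x :=
      orderOf_injective (MulAut.conj a).toMonoidHom (MulAut.conj a).injective x
    have eb : orderOf (b * x * b⁻¹) = orderOf x :=
      orderOf_injective (MulAut.conj b).toMonoidHom (MulAut.conj b).injective x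
    exact h1 (orderOf_eq_one_iff.1 (Nat.eq_one_of_dvd_coprimes (hcop i j hij)
      (ea ▸ (M i).orderOf_dvd_natCard ha) (eb ▸ (M j).orderOf_dvd_natCard hb)))
  have hdisj : ∀ i j, i ≠ j → ∀ k l, Cfsg.classInner ((D i).α k) ((D j).α l) = 0 :=
    fun i j hij k l => classInner_eq_zero_of_disjoint (hsep i j hij k l)
  -- exceptional characters of different kernels differ
  have hθne : ∀ i j, i ≠ j → ∀ k l, (E i).θ k ≠ (E j).θ l := by
    intro i j hij k l h
    have h' : (E i).θ ((D i).bar k) = (E j).θ ((D j).bar l) := by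
      rw [← (E i).conj_θ, ← (E j).conj_θ, h]
    refine (D i).bar_ne k ((E i).inj (Subtype.ext (funext fun x => ?_))).symm |>.elim
    have hi := congrFun ((E i).diff k ((D i).bar k)) x
    have hj := congrFun ((E j).diff l ((D j).bar l)) x
    simp only [Pi.sub_apply, Pi.smul_apply, smul_eq_mul, ← h, ← h'] at hi hj
    have hεi : ((E i).ε : ℂ) ≠ 0 := by
      exact_mod_cast left_ne_zero_of_mul_eq_one (E i).eps_sq
    have hεj : ((E j).ε : ℂ) ≠ 0 := by
      exact_mod_cast left_ne_zero_of_mul_eq_one (E j).eps_sq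
    refine sub_eq_zero.1 ?_
    by_cases h1 : (D i).α k x = 0 ∧ (D i).α ((D i).bar k) x = 0
    · rw [h1.1, h1.2, sub_zero] at hi
      exact (mul_eq_zero.1 hi.symm).resolve_left hεi
    · have hj1 : ∀ l', (D j).α l' x = 0 := by
        intro l'
        rcases not_and_or.1 h1 with h2 | h2
        · exact hsep i j hij _ l' x h2
        · exact hsep i j hij _ l' x h2
      rw [hj1, hj1, sub_zero] at hj
      exact (mul_eq_zero.1 hj.symm).resolve_left hεj
  let c : ι → ι → ℤ := fun j i => (E i).co (z i) ((E j).θ (z j))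
  have hc : ∀ i j, i ≠ j → ∀ k l, (E i).co k ((E j).θ l) = c j i := by
    intro i j hij k l
    rw [(E i).co_const k (z i) _ (fun k' => hθne i j hij k' l)]
    have h := congrArg (fun f => Cfsg.classInner ((D i).α (z i)) f) ((E j).diff l (z j))
    simp only [H26.classInner_sub_right, H26.classInner_smul_right, map_intCast, (E i).co_spec,
      hdisj i j hij, sub_zero] at h
    have h2 : (0 : ℤ) = (E j).ε * ((E i).co (z i) ((E j).θ l) - (E i).co (z i) ((E j).θ (z j))) := by
      exact_mod_cast h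
    exact sub_eq_zero.1 ((mul_eq_zero.1 h2.symm).resolve_left (left_ne_zero_of_mul_eq_one (E j).eps_sq))
  have hexp : ∀ i j k l, Cfsg.classInner ((D i).α k) ((D j).α l) =
      ((∑ χ : Cfsg.IrrCharacter G, (E i).co k χ * (E j).co l χ : ℤ) : ℂ) := by
    intro i j k l
    rw [H26.classInner_eq_sum _ _ (H57.gen_classFunction ((D i).gen k))]
    push_cast
    exact Finset.sum_congr rfl fun χ _ => by rw [(E i).co_spec, (E j).co_spec, map_intCast]
  have hown : ∀ i, ∑ l, (E i).co (z i) ((E i).θ l) ^ 2 =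
      ((D i).s : ℤ) * (E i).cc ^ 2 + 2 * (E i).ε * (E i).cc + 1 := by
    intro i
    simp only [(E i).co_self, add_sq, Finset.sum_add_distrib, Finset.sum_const, Finset.card_univ,
      Fintype.card_fin, nsmul_eq_mul, mul_ite, mul_zero, ite_pow, zero_pow (by norm_num : 2 ≠ 0)]
    simp only [Finset.sum_ite_eq, Finset.mem_univ, if_true, sq, (E i).eps_sq]
    ring
  -- column bound
  have hcol : ∀ i, ∑ j ∈ Finset.univ.erase i, ((D j).s : ℝ) * (c j i : ℝ) ^ 2 ≤
      ((D i).e : ℝ) - 1 := by
    intro i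
    have h1 : ((D i).e : ℤ) + 1 = ∑ χ : Cfsg.IrrCharacter G, (E i).co (z i) χ ^ 2 := by
      apply Int.cast_injective (α := ℂ)
      simp only [sq]
      rw [← hexp, (D i).gram, if_pos rfl]
      push_cast
      rfl
    let Φ : Option (Σ j, Fin (D j).s) → Cfsg.IrrCharacter G := fun o =>
      o.elim (H26.oneIrr G) fun p => (E p.1).θ p.2
    have hΦ : Function.Injective Φ := by
      rintro (_ | ⟨j, l⟩) (_ | ⟨j', l'⟩) h
      · rfl
      · exact absurd h.symm ((E j').θ_ne_one l')
      · exact absurd h ((E j).θ_ne_one l)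
      · rcases eq_or_ne j j' with rfl | hj
        · obtain rfl := (E j).inj h
          rfl
        · exact absurd h (hθne j j' hj l l')
    have h2 : ∑ o, (E i).co (z i) (Φ o) ^ 2 ≤ ∑ χ : Cfsg.IrrCharacter G, (E i).co (z i) χ ^ 2 := by
      rw [← Finset.sum_image (f := fun χ => (E i).co (z i) χ ^ 2) hΦ.injOn]
      exact Finset.sum_le_sum_of_subset_of_nonneg (Finset.subset_univ _) fun _ _ _ => sq_nonneg _
    rw [← h1, Fintype.sum_option, Fintype.sum_sigma] at h2
    simp only [Φ, Option.elim_none, Option.elim_some, (E i).co_one] at h2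
    rw [← Finset.add_sum_erase _ _ (Finset.mem_univ i), hown i] at h2
    have h3 : ∑ j ∈ Finset.univ.erase i, ∑ l, (E i).co (z i) ((E j).θ l) ^ 2 =
        ∑ j ∈ Finset.univ.erase i, ((D j).s : ℤ) * c j i ^ 2 :=
      Finset.sum_congr rfl fun j hj => by
        rw [Finset.sum_congr rfl fun l _ => by rw [hc i j (Finset.mem_erase.1 hj).1.symm (z i) l]]
        rw [Finset.sum_const, Finset.card_univ, Fintype.card_fin, nsmul_eq_mul]
    rw [h3] at h2
    have h4 : 0 ≤ ((D i).s : ℤ) * (E i).cc ^ 2 + 2 * (E i).ε * (E i).cc := by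
      have hs : (2 : ℤ) ≤ (D i).s := by exact_mod_cast (D i).two_le
      nlinarith [mul_le_mul_of_nonneg_right hs (sq_nonneg (E i).cc), (E i).eps_sq,
        sq_nonneg (2 * (E i).cc + (E i).ε), Int.le_self_sq ((E i).ε * (E i).cc),
        Int.le_self_sq (-((E i).ε * (E i).cc))]
    have h5 : (∑ j ∈ Finset.univ.erase i, ((D j).s : ℤ) * c j i ^ 2) ≤ ((D i).e : ℤ) - 1 := by
      linarith
    exact_mod_cast h5
  -- tournament
  have htour : ∀ i j, i ≠ j → c i j ≠ 0 ∨ c j i ≠ 0 := by
    intro i j hij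
    by_contra hcon
    push_neg at hcon
    obtain ⟨hij0, hji0⟩ := hcon
    let F : Cfsg.IrrCharacter G → ℤ := fun χ => (E i).co (z i) χ * (E j).co (z j) χ
    have hsum : ∑ χ, F χ = 0 := by
      apply Int.cast_injective (α := ℂ)
      rw [← hexp, hdisj i j hij, Int.cast_zero]
    have hFi : ∀ l, F ((E i).θ l) = 0 := fun l => by
      simp [F, hc j i hij.symm (z j) l, hij0]
    have hFj : ∀ l, F ((E j).θ l) = 0 := fun l => by
      simp [F, hc i j hij (z i) l, hji0]
    have hFbar : ∀ χ, F (conjIrr χ) = F χ := by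
      intro χ
      by_cases h1 : ∃ l, (E i).θ l = χ
      · obtain ⟨l, rfl⟩ := h1
        rw [(E i).conj_θ, hFi, hFi]
      by_cases h2 : ∃ l, (E j).θ l = χ
      · obtain ⟨l, rfl⟩ := h2
        rw [(E j).conj_θ, hFj, hFj]
      push_neg at h1 h2
      have key : ∀ i' : ι, (∀ l, (E i').θ l ≠ χ) →
          (E i').co (z i') (conjIrr χ) = (E i').co (z i') χ := by
        intro i' h
        have h' : ∀ l, (E i').θ l ≠ conjIrr χ := fun l e => h ((D i').bar l) (by
          rw [← (E i').conj_θ, e, conjIrr_conjIrr])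
        rw [(E i').co_const (z i') ((D i').bar (z i')) _ h', (E i').co_conj]
      show _ * _ = _ * _
      rw [key i h1, key j h2]
    have hrest : ∑ χ ∈ Finset.univ.erase (H26.oneIrr G), (F χ : ZMod 2) = 0 := by
      refine Finset.sum_involution (fun χ _ => conjIrr χ) (fun χ _ => ?_) (fun χ hχ _ h => ?_)
        (fun χ hχ => ?_) (fun χ _ => conjIrr_conjIrr χ)
      · rw [hFbar, ← two_mul, show (2 : ZMod 2) = 0 from rfl, zero_mul]
      · exact (Finset.mem_erase.1 hχ).1 (eq_one_of_conjIrr hodd h)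
      · refine Finset.mem_erase.2 ⟨fun h => (Finset.mem_erase.1 hχ).1 ?_, Finset.mem_univ _⟩
        rw [← conjIrr_conjIrr χ, h, conjIrr_one]
    have h2 := congrArg (fun n : ℤ => (n : ZMod 2)) hsum
    simp only [Int.cast_sum, Int.cast_zero] at h2
    rw [← Finset.add_sum_erase _ _ (Finset.mem_univ (H26.oneIrr G)), hrest, add_zero] at h2
    simp [F, (E i).co_one, (E j).co_one] at h2
  -- row bound
  have hrow : ∀ j, ((Nat.card G : ℕ) : ℝ)⁻¹ +
      ∑ i ∈ Finset.univ.erase j, ((D i).s : ℝ) * (c j i : ℝ) ^ 2 /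
        (((D i).s * (D i).e + 1 : ℕ) : ℝ) ≤
      ((D j).e : ℝ) / (((D j).s * (D j).e + 1 : ℕ) : ℝ) := by
    intro j
    set θ := (E j).θ (z j) with hθ
    obtain ⟨d, hd, hd1⟩ := H57.irr_degree θ.2
    let V : ι → G → ℂ := fun i => ∑ k, (D i).α k
    let U : G → ℂ := ((D j).s : ℂ) • (D j).α (z j) - V j
    let δ : G → ℂ := fun x => if x = 1 then 1 else 0
    let f : Option (Option ι) → G → ℂ := fun o => o.elim δ fun o' => o'.elim U V
    let a : ι → ℝ := fun i => (((D i).s * (D i).e + 1 : ℕ) : ℝ)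
    let b : Option (Option ι) → ℝ := fun o => o.elim ((d : ℝ) / (Nat.card G : ℝ)) fun o' =>
      o'.elim (((E j).ε : ℝ) * (((D j).s : ℝ) - 1)) fun i =>
        if i = j then ((D j).s : ℝ) * ((E j).cc : ℝ) + ((E j).ε : ℝ)
        else ((D i).s : ℝ) * (c j i : ℝ)
    let n : Option (Option ι) → ℝ := fun o => o.elim ((Nat.card G : ℝ)⁻¹) fun o' =>
      o'.elim (((D j).s : ℝ) * (((D j).s : ℝ) - 1)) fun i => ((D i).s : ℝ) * a i
    have hgpos : (0 : ℝ) < Nat.card G := by exact_mod_cast Nat.card_pos
    have hs2 : ∀ i, (2 : ℝ) ≤ (D i).s := fun i => by exact_mod_cast (D i).two_le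
    have hVone : ∀ i, V i 1 = 0 := fun i => by simp [V, hzero1]
    have hUone : U 1 = 0 := by simp [U, hVone, hzero1]
    have hrowsum : ∀ i k, Cfsg.classInner ((D i).α k) (V i) = ((a i : ℝ) : ℂ) := by
      intro i k
      simp only [V, H26.classInner_sum_right, (D i).gram, Finset.sum_add_distrib, Finset.sum_const,
        Finset.card_univ, Fintype.card_fin, Finset.sum_ite_eq, Finset.mem_univ, if_true,
        nsmul_eq_mul, a]
      push_cast
      ring
    have hVV : ∀ i, Cfsg.classInner (V i) (V i) = ((((D i).s : ℝ) * a i : ℝ) : ℂ) := by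
      intro i
      rw [show Cfsg.classInner (V i) (V i) = ∑ k, Cfsg.classInner ((D i).α k) (V i) from
        H26.classInner_sum_left _ _ _]
      simp [hrowsum]
    have hαV : ∀ i i' k, i ≠ i' → Cfsg.classInner ((D i).α k) (V i') = 0 := fun i i' k h => by
      simp [V, H26.classInner_sum_right, hdisj i i' h]
    have hVV' : ∀ i i', i ≠ i' → Cfsg.classInner (V i) (V i') = 0 := fun i i' h => by
      rw [show Cfsg.classInner (V i) (V i') = ∑ k, Cfsg.classInner ((D i).α k) (V i') from
        H26.classInner_sum_left _ _ _]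
      simp [hαV i i' _ h]
    have hUV : ∀ i, Cfsg.classInner U (V i) = 0 := by
      intro i
      simp only [U, H26.classInner_sub_left, H26.classInner_smul_left]
      rcases eq_or_ne j i with rfl | h
      · rw [hrowsum, hVV]; push_cast; ring
      · rw [hαV j i _ h, hVV' j i h]; ring
    have hVU : ∀ i, Cfsg.classInner (V i) U = 0 := fun i => by
      rw [← H25.conj_classInner, hUV, map_zero]
    have hUU : Cfsg.classInner U U =
        (((((D j).s : ℝ) * (((D j).s : ℝ) - 1)) : ℝ) : ℂ) := by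
      rw [show Cfsg.classInner U U = Cfsg.classInner U (((D j).s : ℂ) • (D j).α (z j)) -
        Cfsg.classInner U (V j) from H26.classInner_sub_right _ _ _, hUV, sub_zero,
        H26.classInner_smul_right, map_natCast]
      simp only [U, H26.classInner_sub_left, H26.classInner_smul_left, (D j).gram, if_true]
      rw [← H25.conj_classInner ((D j).α (z j)), hrowsum, Complex.conj_ofReal]
      simp only [a]
      push_cast
      ring
    have hδ : ∀ φ : G → ℂ, Cfsg.classInner δ φ = (Nat.card G : ℂ)⁻¹ * conj (φ 1) := fun φ => by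
      simp [Cfsg.classInner, δ, Finset.sum_ite_eq']
    have hδ' : ∀ φ : G → ℂ, φ 1 = 0 → Cfsg.classInner φ δ = 0 := fun φ h => by
      rw [← H25.conj_classInner, hδ, h, map_zero, mul_zero, map_zero]
    have hVθ : ∀ i, Cfsg.classInner (V i) θ.1 = ((∑ k, (E i).co k θ : ℤ) : ℂ) := fun i => by
      simp [V, H26.classInner_sum_left, (E i).co_spec]
    have hselfsum : ∑ k, (E j).co k θ = ((D j).s : ℤ) * (E j).cc + (E j).ε := by
      simp [hθ, (E j).co_self, Finset.sum_add_distrib]
    have horth : ∀ t u, Cfsg.classInner (f t) (f u) = if t = u then (n t : ℂ) else 0 := by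
      rintro (_ | _ | t) (_ | _ | u)
      · simp [f, n, hδ, δ]
      · simp [f, hδ, hUone]
      · simp [f, hδ, hVone]
      · simp [f, hδ' _ hUone]
      · simp [f, n, hUU]
      · simp [f, hUV]
      · simp [f, hδ' _ (hVone _)]
      · simp [f, hVU]
      · rcases eq_or_ne t u with rfl | h
        · simp [f, n, hVV]
        · simp [f, hVV' t u h, h]
    have hb : ∀ t, Cfsg.classInner (f t) θ.1 = (b t : ℂ) := by
      rintro (_ | _ | i)
      · simp [f, b, hδ, hd1, div_eq_inv_mul]
      · simp only [f, b, Option.elim_none, Option.elim_some, U, H26.classInner_sub_left,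
          H26.classInner_smul_left, hVθ, hselfsum]
        rw [(E j).co_spec, hθ, (E j).co_self, if_pos rfl]
        push_cast
        ring
      · simp only [f, b, Option.elim_some, hVθ]
        rcases eq_or_ne i j with rfl | h
        · rw [hselfsum, if_pos rfl]
          push_cast
          rfl
        · rw [if_neg h, Finset.sum_congr rfl fun k _ => hc i j h k (z j), Finset.sum_const,
            Finset.card_univ, Fintype.card_fin]
          simp
    have hn : ∀ t, 0 < n t := by
      rintro (_ | _ | i)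
      · exact inv_pos.2 hgpos
      · exact mul_pos (by linarith [hs2 j]) (by linarith [hs2 j])
      · exact mul_pos (by linarith [hs2 i]) (by simp only [a, Option.elim_some]; positivity)
    have hbes := bessel_le_one θ.1 f b n (H57.irr_inner_self θ.2) hn hb horth
    rw [Fintype.sum_option, Fintype.sum_option, ← Finset.add_sum_erase _ _ (Finset.mem_univ j)]
      at hbes
    simp only [b, n, Option.elim_none, Option.elim_some, if_true] at hbes
    have hε2 : ((E j).ε : ℝ) ^ 2 = 1 := by
      rw [sq]; exact_mod_cast (E j).eps_sq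
    have hA : ((Nat.card G : ℕ) : ℝ)⁻¹ ≤
        ((d : ℝ) / (Nat.card G : ℝ)) ^ 2 / (Nat.card G : ℝ)⁻¹ := by
      have hd' : (1 : ℝ) ≤ d := by exact_mod_cast hd
      rw [div_pow, div_inv_eq_mul, sq (Nat.card G : ℝ), div_mul_eq_mul_div, mul_div_mul_right _ _ hgpos.ne',
        inv_eq_one_div]
      exact div_le_div_of_nonneg_right (by nlinarith) hgpos.le
    have hB : (((E j).ε : ℝ) * (((D j).s : ℝ) - 1)) ^ 2 / (((D j).s : ℝ) * (((D j).s : ℝ) - 1)) =
        (((D j).s : ℝ) - 1) / ((D j).s : ℝ) := by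
      have h1 : ((D j).s : ℝ) - 1 ≠ 0 := by linarith [hs2 j]
      rw [mul_pow, hε2, one_mul, sq, mul_div_mul_right _ _ h1]
    have hodd' : (1 : ℝ) ≤ (((D j).s : ℝ) * ((E j).cc : ℝ) + ((E j).ε : ℝ)) ^ 2 := by
      have h : ((D j).s : ℤ) * (E j).cc + (E j).ε ≠ 0 := by
        intro h
        obtain ⟨r, hr⟩ := (D j).even_s
        have h1 : ((E j).ε) = 2 * (-(r : ℤ) * (E j).cc) := by
          rw [hr] at h; push_cast at h; linarith
        have h2 := (E j).eps_sq
        rw [h1] at h2
        have : (2 : ℤ) ∣ 1 := ⟨_, (h2.symm.trans (by ring : _ = 2 * (2 * (-(r : ℤ) * (E j).cc) ^ 2)))⟩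
        norm_num at this
      exact_mod_cast (pow_two_pos_of_ne_zero h : (0 : ℤ) < _)
    have hC : 1 / (((D j).s : ℝ) * a j) ≤
        (((D j).s : ℝ) * ((E j).cc : ℝ) + ((E j).ε : ℝ)) ^ 2 / (((D j).s : ℝ) * a j) :=
      div_le_div_of_nonneg_right hodd' (hn (some (some j))).le
    have hDsum : ∑ i ∈ Finset.univ.erase j,
        (if i = j then ((D j).s : ℝ) * ((E j).cc : ℝ) + ((E j).ε : ℝ)
          else ((D i).s : ℝ) * (c j i : ℝ)) ^ 2 / (((D i).s : ℝ) * a i) =
        ∑ i ∈ Finset.univ.erase j, ((D i).s : ℝ) * (c j i : ℝ) ^ 2 / a i := by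
      refine Finset.sum_congr rfl fun i hi => ?_
      rw [if_neg (Finset.mem_erase.1 hi).1]
      have : ((D i).s : ℝ) ≠ 0 := by linarith [hs2 i]
      field_simp
    rw [hB, hDsum] at hbes
    have hid : (((D j).s : ℝ) - 1) / ((D j).s : ℝ) + 1 / (((D j).s : ℝ) * a j) =
        1 - ((D j).e : ℝ) / a j := by
      have h1 : ((D j).s : ℝ) ≠ 0 := by linarith [hs2 j]
      simp only [a]
      push_cast
      field_simp
      ring
    show _ + ∑ i ∈ Finset.univ.erase j, ((D i).s : ℝ) * (c j i : ℝ) ^ 2 / a i ≤ _ / a j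
    linarith
  -- covering
  have hidx : ∀ i, Nat.card (G ⧸ Subgroup.normalizer (M i : Set G)) * ((D i).e * Nat.card (M i)) =
      Nat.card G := fun i => by
    rw [(D i).card_normalizer]
    exact (Subgroup.card_eq_card_quotient_mul_card_subgroup _).symm
  have hcover : 1 - ((Nat.card G : ℕ) : ℝ)⁻¹ ≤
      ∑ i, (1 - (Nat.card (M i) : ℝ)⁻¹) / ((D i).e : ℝ) := by
    let T := Σ i, (G ⧸ Subgroup.normalizer (M i : Set G)) × {y : M i // y ≠ 1}
    let F : T → G := fun p => p.2.1.out * (p.2.2.1 : G) * p.2.1.out⁻¹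
    have hsur : ∀ x : {x : G // x ≠ 1}, ∃ p : T, F p = x.1 := by
      rintro ⟨x, hx⟩
      obtain ⟨i, g, hg⟩ := hcov x hx
      set q : G ⧸ Subgroup.normalizer (M i : Set G) := QuotientGroup.mk g⁻¹ with hq
      obtain ⟨k, hk⟩ := QuotientGroup.mk_out_eq_mul (Subgroup.normalizer (M i : Set G)) g⁻¹
      have hy : (k : G)⁻¹ * (g * x * g⁻¹) * (k : G) ∈ M i := by
        have := (Subgroup.mem_normalizer_iff.1 (inv_mem k.2) (g * x * g⁻¹)).1 hg
        rwa [inv_inv] at this
      refine ⟨⟨i, q, ⟨⟨_, hy⟩, fun e => hx ?_⟩⟩, ?_⟩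
      · have e' : (k : G)⁻¹ * (g * x * g⁻¹) * (k : G) = 1 := congrArg Subtype.val e
        have h1 : g * x * g⁻¹ = 1 := by
          rw [show g * x * g⁻¹ = (k : G) * ((k : G)⁻¹ * (g * x * g⁻¹) * (k : G)) * (k : G)⁻¹ by group,
            e', mul_one, mul_inv_cancel]
        exact conj_eq_one_iff.1 h1
      · show q.out * ((k : G)⁻¹ * (g * x * g⁻¹) * (k : G)) * q.out⁻¹ = x
        rw [hk]
        group
    choose P hP using hsur
    have hPinj : Function.Injective P := fun x y h => Subtype.ext (by rw [← hP x, ← hP y, h])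
    have h1 := Nat.card_le_card_of_injective P hPinj
    rw [Nat.card_sigma] at h1
    simp only [Nat.card_prod] at h1
    have hne : ∀ (H : Type u) [Group H] [Finite H], Nat.card {y : H // y ≠ 1} + 1 = Nat.card H := by
      intro H _ _
      haveI := Fintype.ofFinite H
      have := Fintype.card_subtype_compl (α := H) (fun y => y = 1)
      rw [Fintype.card_subtype_eq] at this
      have hpos : 0 < Fintype.card H := Fintype.card_pos
      rw [Nat.card_eq_fintype_card, Nat.card_eq_fintype_card]
      show Fintype.card {y : H // ¬ y = 1} + 1 = _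
      omega
    have hgpos : (0 : ℝ) < Nat.card G := by exact_mod_cast Nat.card_pos
    have h2 : ((Nat.card G : ℕ) : ℝ) - 1 ≤
        ∑ i, (Nat.card G : ℝ) * ((1 - (Nat.card (M i) : ℝ)⁻¹) / ((D i).e : ℝ)) := by
      have h3 : ((Nat.card {x : G // x ≠ 1} : ℕ) : ℝ) ≤ _ := Nat.cast_le.2 h1
      rw [← hne G, Nat.cast_add, Nat.cast_one, add_sub_cancel_right]
      refine h3.trans (le_of_eq ?_)
      push_cast
      refine Finset.sum_congr rfl fun i _ => ?_
      have hi : ((Nat.card (G ⧸ Subgroup.normalizer (M i : Set G)) : ℝ) *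
          (((D i).e : ℝ) * (Nat.card (M i) : ℝ))) = (Nat.card G : ℝ) := by exact_mod_cast hidx i
      have he : ((D i).e : ℝ) ≠ 0 := by
        have := (D i).three_le
        exact_mod_cast (by omega : (D i).e ≠ 0)
      have hm : (Nat.card (M i) : ℝ) ≠ 0 := by exact_mod_cast (Nat.card_pos (α := M i)).ne'
      have hy : ((Nat.card {y : M i // y ≠ 1} : ℕ) : ℝ) = (Nat.card (M i) : ℝ) - 1 := by
        rw [← hne (M i)]; push_cast; ring
      have hgx : ((Nat.card {x : G // x ≠ 1} : ℕ) : ℝ) + 1 = (Nat.card G : ℝ) := by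
        exact_mod_cast hne G
      rw [hgx, ← hi, hy]
      field_simp
    rw [← Finset.mul_sum] at h2
    calc 1 - ((Nat.card G : ℕ) : ℝ)⁻¹ = (((Nat.card G : ℕ) : ℝ) - 1) / (Nat.card G : ℝ) := by
          field_simp
      _ ≤ _ := (div_le_iff₀' hgpos).2 h2
  exact cn_arith (fun i => (D i).e) (fun i => (D i).s) (fun i => Nat.card (M i)) (Nat.card G) c
    (fun i => (D i).three_le) (fun i => (D i).odd_e) (fun i => (D i).two_le)
    (fun i => (D i).even_s) (fun i => (D i).dvd_card) (fun _ => Nat.card_pos)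
    (fun i => (D i).card_of_prime) hcop hrow hcol htour hcover

end Cfsg.Agent.H27
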