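import Cfsg.Agent.H27.Dual
import Cfsg.Agent.H25.CharInd
import Cfsg.Agent.H25.IndRep
import Cfsg.Agent.H57.VChar
import Cfsg.Prelude.Def_OddOrderChar

/-!
Linear characters of a nilpotent TI kernel with a fixed-point-free normaliser quotient, induced to
the group.
-/

set_option autoImplicit false

open scoped ComplexConjugate Pointwise

namespace Cfsg.Agent.H27

universe u

variable {G : Type u} [Group G]

/-- A nilpotent TI subgroup containing the centralisers of its non-identity elements and proper
in its normaliser. -/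
structure TIKernel (M : Subgroup G) : Prop where
  nil : Group.IsNilpotent M
  ne_bot : M ≠ ⊥
  ti : ∀ x ∈ M, x ≠ 1 → ∀ g : G, g * x * g⁻¹ ∈ M → g ∈ Subgroup.normalizer (M : Set G)
  cent : ∀ x ∈ M, x ≠ 1 → Subgroup.centralizer ({x} : Set G) ≤ M
  proper : M ≠ Subgroup.normalizer (M : Set G)

/-- A linear character precomposed with conjugation by an element of the normaliser. -/
def linAct (M : Subgroup G) (l : M →* ℂˣ) (n : Subgroup.normalizer (M : Set G)) : M →* ℂˣ :=
  l.comp (M.normalizerMonoidHom n).toMonoidHom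

/-- Value of `linAct`. -/
theorem linAct_apply (M : Subgroup G) (l : M →* ℂˣ) (n : Subgroup.normalizer (M : Set G)) (x : M) :
    linAct M l n x = l (M.normalizerMonoidHom n x) := rfl

/-- `linAct` is a right action. -/
theorem linAct_linAct (M : Subgroup G) (l : M →* ℂˣ) (n k : Subgroup.normalizer (M : Set G)) :
    linAct M (linAct M l n) k = linAct M l (n * k) := by
  ext x
  simp [linAct_apply, map_mul]

/-- `linAct` at the identity. -/
theorem linAct_one (M : Subgroup G) (l : M →* ℂˣ) : linAct M l 1 = l := by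
  ext x
  simp [linAct_apply]

/-- `linAct` fixes the principal character. -/
theorem linAct_eq_one_iff (M : Subgroup G) (l : M →* ℂˣ) (n : Subgroup.normalizer (M : Set G)) :
    linAct M l n = 1 ↔ l = 1 := by
  constructor
  · intro h
    rw [← linAct_one M l, ← mul_inv_cancel n, ← linAct_linAct, h]
    ext x
    rfl
  · rintro rfl
    ext x
    rfl

/-- `linAct` commutes with inversion. -/
theorem linAct_inv (M : Subgroup G) (l : M →* ℂˣ) (n : Subgroup.normalizer (M : Set G)) :
    linAct M l⁻¹ n = (linAct M l n)⁻¹ := by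
  ext x
  rfl

variable [Finite G] {M : Subgroup G}

/-- Outside the kernel the normaliser fixes no non-principal linear character. -/
theorem TIKernel.eq_one_of_fixed (hK : TIKernel M) {l : M →* ℂˣ}
    {n : Subgroup.normalizer (M : Set G)} (hn : (n : G) ∉ M) (h : linAct M l n = l) : l = 1 := by
  let f : M → M := fun x => M.normalizerMonoidHom n x * x⁻¹
  have hinj : Function.Injective f := by
    intro x y hxy
    have h1 : M.normalizerMonoidHom n (y⁻¹ * x) = y⁻¹ * x := by
      have h2 : M.normalizerMonoidHom n x = M.normalizerMonoidHom n y * y⁻¹ * x := by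
        rw [← mul_inv_eq_iff_eq_mul]; exact hxy
      rw [map_mul, map_inv, h2]
      group
    by_contra hne
    refine hn (hK.cent ((y⁻¹ * x : M) : G) (y⁻¹ * x).2 (fun e => hne ?_) ?_)
    · exact (inv_mul_eq_one.1 (Subtype.ext e : y⁻¹ * x = 1)).symm
    · rw [Subgroup.mem_centralizer_singleton_iff]
      have h3 : (n : G) * ((y⁻¹ * x : M) : G) * (n : G)⁻¹ = ((y⁻¹ * x : M) : G) :=
        congrArg Subtype.val h1
      exact mul_inv_eq_iff_eq_mul.1 h3
  refine MonoidHom.ext fun z => ?_
  obtain ⟨x, rfl⟩ := (Finite.injective_iff_surjective.1 hinj) z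
  show l (M.normalizerMonoidHom n x * x⁻¹) = 1
  rw [map_mul, map_inv, ← linAct_apply, h, mul_inv_cancel]

/-- Kernel elements fix every linear character. -/
theorem linAct_of_mem (l : M →* ℂˣ) {n : Subgroup.normalizer (M : Set G)} (hn : (n : G) ∈ M) :
    linAct M l n = l := by
  ext x
  have h : M.normalizerMonoidHom n x = ⟨(n : G), hn⟩ * x * (⟨(n : G), hn⟩ : M)⁻¹ := Subtype.ext rfl
  rw [linAct_apply, h, map_mul, map_mul, map_inv, mul_comm (l _) (l x), mul_inv_cancel_right]

/-- The number of linear characters is the order of the abelianisation. -/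
theorem card_linear_eq (H : Type*) [Group H] [Finite H] :
    Nat.card (H →* ℂˣ) = Nat.card (Abelianization H) := by
  rw [Nat.card_congr (Abelianization.lift (G := H) (A := ℂˣ)), card_linear]

/-- A nontrivial nilpotent group has a non-principal linear character. -/
theorem one_lt_card_linear (H : Type*) [Group H] [Finite H] [Nontrivial H] [Group.IsNilpotent H] :
    1 < Nat.card (H →* ℂˣ) := by
  rw [card_linear_eq]
  haveI : Nontrivial (H ⧸ commutator H) :=
    QuotientGroup.nontrivial_iff.2 (Group.IsSolvable.commutator_lt_top_of_nontrivial H).ne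
  show 1 < Nat.card (H ⧸ commutator H)
  exact Finite.one_lt_card

/-- A finite nilpotent group with abelianisation of prime order has that order. -/
theorem card_eq_of_prime_abelianization (H : Type*) [Group H] [Finite H] [Group.IsNilpotent H]
    (hp : (Nat.card (Abelianization H)).Prime) : Nat.card H = Nat.card (Abelianization H) := by
  haveI := Fact.mk hp
  haveI : IsCyclic (Abelianization H) := isCyclic_of_prime_card rfl
  obtain ⟨g, hg⟩ := IsCyclic.exists_generator (α := Abelianization H)
  obtain ⟨x, hxg⟩ := QuotientGroup.mk'_surjective (commutator H) g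
  let π : H →* Abelianization H := QuotientGroup.mk' (commutator H)
  replace hxg : π x = g := hxg
  have htop : Subgroup.zpowers x = ⊤ := by
    rcases eq_top_or_exists_le_coatom (Subgroup.zpowers x) with h | ⟨K, hK, hxK⟩
    · exact h
    exfalso
    haveI : K.Normal := Subgroup.NormalizerCondition.normal_of_coatom _ Group.normalizerCondition_of_isNilpotent hK
    have hc : commutator H ≤ K := by
      obtain ⟨y, -, hy⟩ := SetLike.exists_of_lt (lt_top_iff_ne_top.2 hK.1)
      have hz : Subgroup.zpowers (QuotientGroup.mk' K y) = ⊤ := by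
        have h1 : (Subgroup.zpowers (QuotientGroup.mk' K y)).comap (QuotientGroup.mk' K) = ⊤ := by
          refine hK.2 _ (lt_of_le_of_ne (fun k hk => ?_) fun e => hy ?_)
          · rw [Subgroup.mem_comap, show QuotientGroup.mk' K k = 1 from (QuotientGroup.eq_one_iff k).2 hk]
            exact one_mem _
          · rw [e]
            exact Subgroup.mem_zpowers _
        rw [← Subgroup.map_comap_eq_self_of_surjective (QuotientGroup.mk'_surjective K)
          (Subgroup.zpowers (QuotientGroup.mk' K y)), h1,
          Subgroup.map_top_of_surjective _ (QuotientGroup.mk'_surjective K)]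
      haveI : IsCyclic (H ⧸ K) := ⟨⟨_, (Subgroup.eq_top_iff' _).1 hz⟩⟩
      rw [← QuotientGroup.ker_mk' K, commutator, Subgroup.commutator_le]
      intro a _ b _
      rw [MonoidHom.mem_ker, map_commutatorElement, commutatorElement_eq_one_iff_mul_comm]
      exact IsCyclic.commGroup.mul_comm _ _
    apply hK.1
    refine (Subgroup.eq_top_iff' K).2 fun h => ?_
    obtain ⟨i, hi⟩ := hg (π h)
    simp only at hi
    rw [← hxg, ← map_zpow] at hi
    have h1 := hc ((QuotientGroup.eq).1 hi)
    have := K.mul_mem (hxK (Subgroup.zpow_mem_zpowers x i)) h1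
    rwa [mul_inv_cancel_left] at this
  have hbot : commutator H = ⊥ := by
    haveI : IsCyclic H := ⟨⟨x, (Subgroup.eq_top_iff' _).1 htop⟩⟩
    rw [commutator, Subgroup.commutator_eq_bot_iff_le_centralizer]
    intro a _
    exact Subgroup.mem_centralizer_iff.2 fun b _ => IsCyclic.commGroup.mul_comm _ _
  rw [(commutator H).card_eq_card_quotient_mul_card_subgroup, hbot, Subgroup.card_bot, mul_one]
  rw [← hbot]
  rfl

variable [Fintype G]

/-- The virtual character induced from `1 - l`. -/
noncomputable def aFun (M : Subgroup G) (l : M →* ℂˣ) : G → ℂ :=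
  Cfsg.indFun M fun x => 1 - (l x : ℂ)

open scoped Classical in
/-- The inner product of two linear characters. -/
theorem classInner_linear (M : Subgroup G) [Fintype M] (l k : M →* ℂˣ) :
    Cfsg.classInner (fun x : M => (l x : ℂ)) (fun x : M => (k x : ℂ)) = if l = k then 1 else 0 := by
  split_ifs with h
  · subst h; exact H57.irr_inner_self (H26.isIrrCharacter_hom l)
  · exact H57.irr_inner_ne (H26.isIrrCharacter_hom l) (H26.isIrrCharacter_hom k)
      fun e => h (MonoidHom.ext fun x => Units.ext (congrFun e x))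

/-- `aFun` is a generalised character. -/
theorem aFun_gen (M : Subgroup G) (l : M →* ℂˣ) : Cfsg.IsGeneralizedCharacter G (aFun M l) :=
  ⟨Cfsg.indFun M (fun x : M => (1 : ℂ)), Cfsg.indFun M (fun x : M => (l x : ℂ)),
    H25.isCharacter_indFun M (H26.isCharacter_of_irr (H26.oneIrr M).2),
    H25.isCharacter_indFun M (H26.isCharacter_of_irr (H26.isIrrCharacter_hom l)),
    H25.indFun_sub M _ _⟩

/-- `aFun` is supported on conjugates of non-identity kernel elements. -/
theorem aFun_supp (M : Subgroup G) (l : M →* ℂˣ) {x : G} (hx : aFun M l x ≠ 0) :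
    x ≠ 1 ∧ ∃ g : G, g * x * g⁻¹ ∈ M := by
  constructor
  · rintro rfl
    exact hx (by rw [aFun, H25.indFun_one]; simp)
  · by_contra h
    push_neg at h
    exact hx (H25.indFun_eq_zero M _ fun g => by simpa using h g⁻¹)

/-- `aFun` is invariant under the normaliser. -/
theorem aFun_linAct (M : Subgroup G) (l : M →* ℂˣ) (n : Subgroup.normalizer (M : Set G)) :
    aFun M (linAct M l n) = aFun M l := by
  funext g
  simp only [aFun, H25.indFun_apply]
  congr 1
  refine Fintype.sum_equiv (Equiv.mulRight (n : G)⁻¹) _ _ fun x => ?_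
  have hiff : ∀ y : G, (n : G) * y * (n : G)⁻¹ ∈ M ↔ y ∈ M := fun y =>
    (Subgroup.mem_normalizer_iff.1 n.2 y).symm
  have he : (x * (n : G)⁻¹)⁻¹ * g * (x * (n : G)⁻¹) = (n : G) * (x⁻¹ * g * x) * (n : G)⁻¹ := by
    group
  simp only [Equiv.coe_mulRight]
  rw [he]
  by_cases hy : x⁻¹ * g * x ∈ M
  · rw [H25.extendByZero_of_mem M _ hy, H25.extendByZero_of_mem M _ ((hiff _).2 hy), linAct_apply]
    rfl
  · rw [H25.extendByZero_of_notMem M _ hy, H25.extendByZero_of_notMem M _ (mt (hiff _).1 hy)]

/-- Complex conjugation inverts the linear character. -/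
theorem conjFun_aFun (M : Subgroup G) (l : M →* ℂˣ) :
    Cfsg.conjFun (aFun M l) = aFun M l⁻¹ := by
  funext g
  simp only [Cfsg.conjFun, aFun, H25.indFun_apply, map_mul, map_inv₀, map_natCast, map_sum]
  congr 1
  refine Finset.sum_congr rfl fun x _ => ?_
  by_cases hy : x⁻¹ * g * x ∈ M
  · rw [H25.extendByZero_of_mem M _ hy, H25.extendByZero_of_mem M _ hy, map_sub, map_one,
      conj_linear, map_inv]
    rfl
  · rw [H25.extendByZero_of_notMem M _ hy, H25.extendByZero_of_notMem M _ hy, map_zero]

/-- The coefficient of the principal character in `aFun`. -/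
theorem aFun_inner_one (M : Subgroup G) {l : M →* ℂˣ} (hl : l ≠ 1) :
    Cfsg.classInner (aFun M l) (H26.oneIrr G).1 = 1 := by
  classical
  haveI := Fintype.ofFinite M
  rw [aFun, H25.classInner_indFun_left M _ _ (H26.irr_isClassFunction _)]
  have h1 : (fun x : M => (1 : ℂ) - (l x : ℂ)) =
      (fun x : M => ((1 : M →* ℂˣ) x : ℂ)) - (fun x : M => (l x : ℂ)) := by
    funext x; simp
  have h2 : (fun h : M => (H26.oneIrr G).1 (h : G)) = fun x : M => ((1 : M →* ℂˣ) x : ℂ) := by
    funext x; simp [H26.oneIrr_val]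
  rw [h1, h2, H26.classInner_sub_left, classInner_linear, classInner_linear, if_pos rfl,
    if_neg hl, sub_zero]

/-- The inner product of two induced virtual characters. -/
theorem aFun_inner (hK : TIKernel M) {l k : M →* ℂˣ} (hl : l ≠ 1) (hk : k ≠ 1) :
    Cfsg.classInner (aFun M l) (aFun M k) = (Nat.card M : ℂ)⁻¹ *
      ((Nat.card (Subgroup.normalizer (M : Set G)) : ℂ) +
        Nat.card {n : Subgroup.normalizer (M : Set G) // linAct M k n = l}) := by
  classical
  haveI := Fintype.ofFinite M
  set N := Subgroup.normalizer (M : Set G) with hN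
  haveI := Fintype.ofFinite N
  have hm : (Nat.card M : ℂ) ≠ 0 := Nat.cast_ne_zero.2 Nat.card_pos.ne'
  have hval : ∀ x : M, x ≠ 1 → aFun M k (x : G) = (Nat.card M : ℂ)⁻¹ *
      ∑ n : N, ((1 : ℂ) - (linAct M k n x : ℂ)) := by
    intro x hx
    rw [aFun, H25.indFun_apply]
    congr 1
    rw [← Finset.sum_filter_add_sum_filter_not Finset.univ (· ∈ N),
      Finset.sum_eq_zero (s := Finset.univ.filter (¬ · ∈ N)), add_zero,
      Finset.sum_subtype (p := (· ∈ N)) (F := inferInstance) _ (by simp)]
    · refine Fintype.sum_equiv (Equiv.inv N) _ _ fun n => ?_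
      have hmem : (n : G)⁻¹ * x * (n : G) ∈ M := by
        have := (Subgroup.mem_normalizer_iff.1 (inv_mem n.2) (x : G)).1 x.2
        rwa [inv_inv] at this
      rw [H25.extendByZero_of_mem M _ hmem, Equiv.inv_apply, linAct_apply]
      have hx' : (⟨_, hmem⟩ : M) = M.normalizerMonoidHom n⁻¹ x :=
        Subtype.ext (show (n : G)⁻¹ * x * (n : G) = (n : G)⁻¹ * x * ((n : G)⁻¹)⁻¹ by rw [inv_inv])
      rw [hx']
    · intro g hg
      refine H25.extendByZero_of_notMem M _ fun hmem => (Finset.mem_filter.1 hg).2 ?_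
      have := hK.ti (x : G) x.2 (fun e => hx (Subtype.ext e)) g⁻¹ (by rwa [inv_inv])
      simpa using inv_mem this
  have hfun : ∀ x : M, ((1 : ℂ) - (l x : ℂ)) * conj (aFun M k (x : G)) =
      (Nat.card M : ℂ)⁻¹ * ∑ n : N, ((1 : ℂ) - (l x : ℂ)) * conj ((1 : ℂ) - (linAct M k n x : ℂ)) := by
    intro x
    by_cases hx : x = 1
    · subst hx; simp
    rw [hval x hx, map_mul, map_inv₀, map_natCast, map_sum, Finset.mul_sum, Finset.mul_sum,
      Finset.mul_sum]
    exact Finset.sum_congr rfl fun n _ => by ring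
  have h1 : Cfsg.classInner (aFun M l) (aFun M k) = (Nat.card M : ℂ)⁻¹ * ∑ n : N,
      Cfsg.classInner ((fun x : M => ((1 : M →* ℂˣ) x : ℂ)) - fun x => (l x : ℂ))
        ((fun x : M => ((1 : M →* ℂˣ) x : ℂ)) - fun x => (linAct M k n x : ℂ)) := by
    rw [show aFun M l = Cfsg.indFun M _ from rfl,
      H25.classInner_indFun_left M _ _ (H57.gen_classFunction (aFun_gen M k))]
    unfold Cfsg.classInner
    rw [Finset.sum_congr rfl fun x _ => hfun x, ← Finset.mul_sum, Finset.sum_comm,
      ← Finset.mul_sum]
    simp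
  rw [h1]
  congr 1
  have h2 : ∀ n : N, Cfsg.classInner ((fun x : M => ((1 : M →* ℂˣ) x : ℂ)) - fun x => (l x : ℂ))
      ((fun x : M => ((1 : M →* ℂˣ) x : ℂ)) - fun x => (linAct M k n x : ℂ)) =
      1 + if linAct M k n = l then 1 else 0 := by
    intro n
    rw [H26.classInner_sub_left, H26.classInner_sub_right, H26.classInner_sub_right,
      classInner_linear, classInner_linear, classInner_linear, classInner_linear, if_pos rfl,
      if_neg hl, if_neg (fun e => hk ((linAct_eq_one_iff M k n).1 e.symm))]
    by_cases h : linAct M k n = l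
    · rw [if_pos h, if_pos h.symm]; ring
    · rw [if_neg h, if_neg (Ne.symm h)]; ring
  rw [Finset.sum_congr rfl fun n _ => h2 n, Finset.sum_add_distrib, Finset.sum_boole,
    Finset.sum_const, Finset.card_univ, nsmul_eq_mul, mul_one, ← Nat.card_eq_fintype_card]
  congr 2
  rw [Nat.card_eq_fintype_card, Fintype.card_subtype]

/-- The data of a kernel used in the counting argument. -/
structure KernelData (G : Type u) [Group G] [Fintype G] (M : Subgroup G) where
  e : ℕ
  s : ℕ
  α : Fin s → G → ℂ
  bar : Fin s → Fin s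
  three_le : 3 ≤ e
  odd_e : Odd e
  two_le : 2 ≤ s
  even_s : Even s
  card_normalizer : e * Nat.card M = Nat.card (Subgroup.normalizer (M : Set G))
  dvd_card : s * e + 1 ∣ Nat.card M
  card_of_prime : (s * e + 1).Prime → Nat.card M = s * e + 1
  supp : ∀ k x, α k x ≠ 0 → x ≠ 1 ∧ ∃ g : G, g * x * g⁻¹ ∈ M
  gen : ∀ k, Cfsg.IsGeneralizedCharacter G (α k)
  bar_ne : ∀ k, bar k ≠ k
  conj_α : ∀ k, Cfsg.conjFun (α k) = α (bar k)
  inner_one : ∀ k, Cfsg.classInner (α k) (H26.oneIrr G).1 = 1
  gram : ∀ k l, Cfsg.classInner (α k) (α l) = (e : ℂ) + if k = l then 1 else 0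

/-- The kernel data exist in a group of odd order. -/
theorem exists_kernelData (hK : TIKernel M) (hodd : Odd (Nat.card G)) :
    Nonempty (KernelData G M) := by
  classical
  set N := Subgroup.normalizer (M : Set G) with hN
  haveI := hK.nil
  haveI : Nontrivial M := (Subgroup.nontrivial_iff_ne_bot M).2 hK.ne_bot
  set L0 := {l : M →* ℂˣ // l ≠ 1} with hL0
  letI act : MulAction N L0 :=
    { smul := fun n l => ⟨linAct M l.1 n⁻¹, fun h => l.2 ((linAct_eq_one_iff M l.1 n⁻¹).1 h)⟩
      one_smul := fun l => Subtype.ext (show linAct M l.1 1⁻¹ = l.1 by rw [inv_one, linAct_one])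
      mul_smul := fun a b l => Subtype.ext
        (show linAct M l.1 (a * b)⁻¹ = linAct M (linAct M l.1 b⁻¹) a⁻¹ by
          rw [linAct_linAct, mul_inv_rev]) }
  have hsmul : ∀ (n : N) (l : L0), (n • l).1 = linAct M l.1 n⁻¹ := fun _ _ => rfl
  have hstab : ∀ l : L0, MulAction.stabilizer N l = M.subgroupOf N := by
    intro l
    ext n
    rw [MulAction.mem_stabilizer_iff, Subgroup.mem_subgroupOf]
    constructor
    · intro h
      by_contra hn
      refine l.2 (hK.eq_one_of_fixed (n := n⁻¹) (by simpa using hn) ?_)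
      rw [← hsmul, h]
    · intro hn
      exact Subtype.ext ((hsmul n l).trans (linAct_of_mem l.1 (by simpa using hn)))
  set e := M.relIndex N with he
  have hMN : M ≤ N := Subgroup.le_normalizer
  have hcardN : e * Nat.card M = Nat.card N := by
    rw [he, Subgroup.relIndex, ← Nat.card_congr (Subgroup.subgroupOfEquivOfLe hMN).toEquiv,
      Subgroup.index_mul_card]
  have heodd : Odd e :=
    hodd.of_dvd_nat ((Dvd.intro _ hcardN).trans N.card_subgroup_dvd_card)
  have he3 : 3 ≤ e := by
    rcases heodd with ⟨j, hj⟩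
    rcases Nat.eq_zero_or_pos j with rfl | hj0
    · exfalso
      refine hK.proper (le_antisymm hMN (Subgroup.relIndex_eq_one.1 ?_))
      omega
    · omega
  set Ω := MulAction.orbitRel.Quotient N L0 with hΩ
  haveI : Fintype Ω := Fintype.ofFinite _
  set s := Fintype.card Ω with hs
  let enum : Fin s ≃ Ω := (Fintype.equivFin Ω).symm
  let rep : Fin s → L0 := fun k => (enum k).out
  have hrep : ∀ k, Quotient.mk (MulAction.orbitRel N L0) (rep k) = enum k := fun k =>
    Quotient.out_eq _
  -- counting
  have hcardL : Nat.card (M →* ℂˣ) = s * e + 1 := by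
    have h1 : Nat.card L0 = s * e := by
      rw [Nat.card_congr (MulAction.selfEquivSigmaOrbitsQuotientStabilizer N L0), Nat.card_sigma]
      simp_rw [hstab]
      rw [Finset.sum_const, Finset.card_univ, smul_eq_mul, ← hs]
      rfl
    have h2 : Nat.card (M →* ℂˣ) = Nat.card L0 + 1 := by
      have := Fintype.card_subtype_compl (α := M →* ℂˣ) (fun l => l = 1)
      rw [Fintype.card_subtype_eq] at this
      have hpos : 0 < Fintype.card (M →* ℂˣ) := Fintype.card_pos
      rw [hL0, Nat.card_eq_fintype_card, Nat.card_eq_fintype_card]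
      show _ = Fintype.card {l : M →* ℂˣ // ¬ l = 1} + 1
      omega
    rw [h2, h1]
  -- no orbit is closed under inversion
  have hii : ∀ l : M →* ℂˣ, l⁻¹⁻¹ = l := fun l => MonoidHom.ext fun x => inv_inv (l x)
  have hinv : ∀ (l : L0) (n : N), linAct M l.1 n ≠ l.1⁻¹ := by
    intro l n h
    have h2 : linAct M l.1 (n * n) = l.1 := by
      rw [← linAct_linAct, h, linAct_inv, h, hii]
    have hn : ((n * n : N) : G) ∈ M := by
      by_contra hn
      exact l.2 (hK.eq_one_of_fixed hn h2)
    obtain ⟨j, hj⟩ := hodd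
    have hnM : (n : G) ∈ M := by
      have h3 : (n : G) = (((n * n : N) : G)) ^ (j + 1) := by
        rw [Subgroup.coe_mul, ← sq, ← pow_mul, show 2 * (j + 1) = Nat.card G + 1 by omega,
          pow_succ, pow_card_eq_one', one_mul]
      rw [h3]
      exact M.pow_mem hn _
    rw [linAct_of_mem l.1 hnM] at h
    apply l.2
    refine MonoidHom.ext fun x => ?_
    have h4 : (l.1 x) ^ 2 = 1 := by
      rw [sq]
      nth_rewrite 2 [h]
      rw [MonoidHom.inv_apply, mul_inv_cancel]
    have hox : Odd (orderOf x) := (show Odd (Nat.card G) from ⟨j, hj⟩).of_dvd_nat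
      ((orderOf_dvd_natCard x).trans M.card_subgroup_dvd_card)
    obtain ⟨i, hi⟩ := hox
    have h5 : (l.1 x) ^ orderOf x = 1 := by rw [← map_pow, pow_orderOf_eq_one, map_one]
    rw [hi, pow_add, pow_mul, h4, one_pow, one_mul, pow_one] at h5
    simpa using h5
  let barL : L0 → L0 := fun l => ⟨l.1⁻¹, fun h => l.2 (MonoidHom.ext fun x => inv_eq_one.1 (DFunLike.congr_fun h x))⟩
  let bar : Fin s → Fin s := fun k =>
    enum.symm (Quotient.mk (MulAction.orbitRel N L0) (barL (rep k)))
  have hrel : ∀ a b : L0, Quotient.mk (MulAction.orbitRel N L0) a = Quotient.mk _ b →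
      ∃ n : N, n • b = a := fun a b h => Quotient.exact h
  have hbar : ∀ k, ∃ n : N, n • barL (rep k) = rep (bar k) := fun k => hrel _ _ (by
    rw [hrep]
    exact enum.apply_symm_apply _)
  have hbar_ne : ∀ k, bar k ≠ k := by
    intro k h
    obtain ⟨n, hn⟩ := hbar k
    rw [h] at hn
    have h1 : linAct M (rep k).1⁻¹ n⁻¹ = (rep k).1 := congrArg Subtype.val hn
    rw [linAct_inv] at h1
    exact hinv _ _ ((hii _).symm.trans (congrArg (·⁻¹) h1))
  have hbar2 : ∀ k, bar (bar k) = k := by
    intro k
    obtain ⟨n, hn⟩ := hbar k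
    apply enum.injective
    rw [show enum (bar (bar k)) = Quotient.mk (MulAction.orbitRel N L0) (barL (rep (bar k))) from
      enum.apply_symm_apply _, ← hn, ← hrep k]
    refine Quotient.sound ⟨n, ?_⟩
    refine Subtype.ext ?_
    show linAct M (rep k).1 n⁻¹ = (linAct M (rep k).1⁻¹ n⁻¹)⁻¹
    rw [linAct_inv, hii]
  have hseven : Even s := by
    have h : ∑ _k : Fin s, (1 : ZMod 2) = 0 := Finset.sum_involution (fun k _ => bar k)
      (fun _ _ => by decide) (fun k _ _ => hbar_ne k) (fun k _ => Finset.mem_univ _)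
      (fun k _ => hbar2 k)
    rw [Finset.sum_const, Finset.card_univ, Fintype.card_fin, nsmul_eq_mul, mul_one] at h
    exact ZMod.natCast_eq_zero_iff_even.1 h
  have hs2 : 2 ≤ s := by
    rcases hseven with ⟨j, hj⟩
    rcases Nat.eq_zero_or_pos j with rfl | hj0
    · exfalso
      have h := one_lt_card_linear M
      rw [hcardL, hj] at h
      omega
    · omega
  refine ⟨⟨e, s, fun k => aFun M (rep k).1, bar, he3, heodd, hs2, hseven, hcardN, ?_, ?_,
    fun k x hx => aFun_supp M _ hx, fun k => aFun_gen M _, hbar_ne, ?_,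
    fun k => aFun_inner_one M (rep k).2, ?_⟩⟩
  · rw [← hcardL, card_linear_eq]
    exact Subgroup.card_quotient_dvd_card _
  · intro hp
    rw [← hcardL, card_linear_eq] at hp ⊢
    exact card_eq_of_prime_abelianization M hp
  · intro k
    obtain ⟨n, hn⟩ := hbar k
    rw [conjFun_aFun, ← hn, hsmul, aFun_linAct]
  · intro k l
    rw [aFun_inner hK (rep k).2 (rep l).2]
    have hm : (Nat.card M : ℂ) ≠ 0 := Nat.cast_ne_zero.2 Nat.card_pos.ne'
    have hN' : (Nat.card N : ℂ) = (e : ℂ) * (Nat.card M : ℂ) := by rw [← hcardN]; push_cast; ring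
    rw [hN']
    by_cases hkl : k = l
    · subst hkl
      rw [if_pos rfl]
      have h : Nat.card {n : N // linAct M (rep k).1 n = (rep k).1} = Nat.card M := by
        rw [← Nat.card_congr (Subgroup.subgroupOfEquivOfLe hMN).toEquiv]
        refine Nat.card_congr (Equiv.subtypeEquivRight fun n => ?_)
        rw [Subgroup.mem_subgroupOf]
        exact ⟨fun h => by_contra fun hn => (rep k).2 (hK.eq_one_of_fixed hn h),
          fun hn => linAct_of_mem _ hn⟩
      rw [h]
      field_simp
    · rw [if_neg hkl]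
      haveI : IsEmpty {n : N // linAct M (rep l).1 n = (rep k).1} := ⟨fun n => hkl (enum.injective (by
        rw [← hrep k, ← hrep l]
        refine Quotient.sound ⟨n.1⁻¹, Subtype.ext ?_⟩
        rw [hsmul, inv_inv, n.2]))⟩
      rw [Nat.card_of_isEmpty (α := {n : N // linAct M (rep l).1 n = (rep k).1})]
      field_simp
      simp

end Cfsg.Agent.H27
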