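import Cfsg.Prelude.Def_OddOrderLocal
import Cfsg.Agent.H27.CNLocal

/-!
The nilpotent kernels `F(N(S))` of a minimal non-solvable CN-group of odd order.
-/

set_option autoImplicit false

namespace Cfsg.Agent.H27

open Cfsg.Agent.H23 (IsSylowIn exists_isSylowIn_ge)
open Cfsg.Agent.H61 (cj sylowIn_of_le)

/-- A subgroup containing every prime-power element of `H` contains `H`. -/
theorem le_of_primePow {G : Type*} [Group G] [Finite G] {H K : Subgroup G}
    (h : ∀ r : ℕ, r.Prime → ∀ y ∈ H, IsPGroup r (Subgroup.zpowers y) → y ∈ K) : H ≤ K := by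
  rw [← Subgroup.relIndex_eq_one]
  by_contra hne
  obtain ⟨r, hr, hrd⟩ := Nat.exists_prime_and_dvd hne
  haveI := Fact.mk hr
  let R : Sylow r H := default
  refine R.not_dvd_index (hrd.trans (Subgroup.index_dvd_of_le fun y hy => ?_))
  refine h r hr (y : G) y.2 ((R.2.map H.subtype).to_le (Subgroup.zpowers_le.2 ?_))
  exact Subgroup.mem_map_of_mem _ hy

/-- Isomorphisms carry the Fitting subgroup into the Fitting subgroup. -/
theorem map_fitting_le_equiv {A B : Type*} [Group A] [Group B] [Finite A] [Finite B] (e : A ≃* B) :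
    (Cfsg.fittingSubgroup A).map e.toMonoidHom ≤ Cfsg.fittingSubgroup B := by
  have := H19.fitting_isNilpotent (G := A)
  exact H19.le_fitting ((H19.fitting_normal A).map _ e.surjective)
    (Group.nilpotent_of_mulEquiv
      ((Cfsg.fittingSubgroup A).equivMapOfInjective e.toMonoidHom e.injective))

/-- Conjugation carries `F(X)` into `F(gXg⁻¹)`. -/
theorem map_fittingOf_le {G : Type*} [Group G] [Finite G] (X : Subgroup G) (f : G →* G)
    (hf : Function.Injective f) :
    (Cfsg.fittingOf X).map f ≤ Cfsg.fittingOf (X.map f) := by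
  have h := map_fitting_le_equiv (X.equivMapOfInjective f hf)
  rintro _ ⟨_, ⟨a, ha, rfl⟩, rfl⟩
  exact ⟨X.equivMapOfInjective f hf a, h ⟨a, ha, rfl⟩, rfl⟩

namespace MinCN

variable {G : Type*} [Group G] [Finite G]

/-- `F(N(S)) ≤ N(S)`. -/
theorem kernel_le (X : Subgroup G) : Cfsg.fittingOf X ≤ X := Subgroup.map_subtype_le _

/-- `F(X)` is normalised by `X`. -/
theorem le_normalizer_kernel (X : Subgroup G) :
    X ≤ Subgroup.normalizer (Cfsg.fittingOf X : Set G) :=
  le_normalizer_map_subtype X _ (H19.fitting_normal X)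

/-- `F(X)` is nilpotent. -/
theorem kernel_nilpotent (X : Subgroup G) : Group.IsNilpotent (Cfsg.fittingOf X : Subgroup G) := by
  have := H19.fitting_isNilpotent (G := X)
  exact Group.nilpotent_of_mulEquiv
    ((Cfsg.fittingSubgroup X).equivMapOfInjective X.subtype X.subtype_injective)

/-- A normalised `p`-subgroup of `X` lies in `F(X)`. -/
theorem le_kernel_of_isPGroup {p : ℕ} [Fact p.Prime] {X T : Subgroup G} (hT : IsPGroup p T)
    (hTX : T ≤ X) (hn : X ≤ Subgroup.normalizer (T : Set G)) : T ≤ Cfsg.fittingOf X := by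
  have h := (H19.le_pCore (Subgroup.normal_subgroupOf_of_le_normalizer hn)
    (hT.comap_of_injective X.subtype X.subtype_injective)).trans (H19.pCore_le_fitting p)
  have h' := Subgroup.map_mono (f := X.subtype) h
  rwa [Subgroup.map_subgroupOf_eq_of_le hTX] at h'

/-- Sylow subgroups normalised by `S`-normalisers lie in the kernel. -/
theorem sylow_le_kernel {p : ℕ} [Fact p.Prime] (S : Sylow p G) :
    (S : Subgroup G) ≤ Cfsg.fittingOf (Subgroup.normalizer ((S : Subgroup G) : Set G)) :=
  le_kernel_of_isPGroup S.2 Subgroup.le_normalizer le_rfl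

/-- For every prime divisor of the kernel a Sylow subgroup of `G` lies in it and has the same
normaliser. -/
theorem exists_sylow (hG : MinCN G) {p : ℕ} [Fact p.Prime] (S : Sylow p G)
    (hS : (S : Subgroup G) ≠ ⊥) {q : ℕ} [Fact q.Prime]
    (hq : q ∣ Nat.card (Cfsg.fittingOf (Subgroup.normalizer ((S : Subgroup G) : Set G)))) :
    ∃ Q : Sylow q G, (Q : Subgroup G) ≠ ⊥ ∧
      (Q : Subgroup G) ≤ Cfsg.fittingOf (Subgroup.normalizer ((S : Subgroup G) : Set G)) ∧
      Subgroup.normalizer ((Q : Subgroup G) : Set G) =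
        Subgroup.normalizer ((S : Subgroup G) : Set G) := by
  set X := Subgroup.normalizer ((S : Subgroup G) : Set G) with hXdef
  have hX : X ≠ ⊤ := hG.normalizer_ne_top S.2 hS
  -- a nontrivial normal `q`-subgroup of `X`
  let V : Sylow q (Cfsg.fittingSubgroup X) := default
  haveI := H19.fitting_normal X
  have hV : (V : Subgroup (Cfsg.fittingSubgroup X)).Normal :=
    ((Group.isNilpotent_of_finite_tfae (G := Cfsg.fittingSubgroup X)).out 0 3 rfl rfl).mp
      H19.fitting_isNilpotent q ⟨Fact.out⟩ _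
  haveI := V.characteristic_of_normal hV
  set U₀ := (V : Subgroup (Cfsg.fittingSubgroup X)).map (Cfsg.fittingSubgroup X).subtype with hU₀
  have hU₀n : U₀.Normal := inferInstance
  set U := U₀.map X.subtype with hU
  have hXU : X ≤ Subgroup.normalizer (U : Set G) := le_normalizer_map_subtype X _ hU₀n
  have hUp : IsPGroup q U := (V.2.map _).map _
  have hU1 : U ≠ ⊥ := by
    rw [hU, Ne, Subgroup.map_eq_bot_iff_of_injective _ X.subtype_injective, hU₀,
      Subgroup.map_eq_bot_iff_of_injective _ (Subgroup.subtype_injective _)]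
    refine V.ne_bot_of_dvd_card ?_
    rwa [Nat.card_congr
      ((Cfsg.fittingSubgroup X).equivMapOfInjective X.subtype X.subtype_injective).toEquiv]
  have hUX : U ≤ X := Subgroup.map_subtype_le _
  obtain ⟨T, hT, hUT⟩ := exists_isSylowIn_ge hUX hUp
  have hXT := hG.le_normalizer_of_local hX hT hUp hU1 hUX hXU
  have hTM : T ≤ Cfsg.fittingOf X := le_kernel_of_isPGroup hT.2.1 hT.1 hXT
  have hT1 : T ≠ ⊥ := fun h => hU1 (le_bot_iff.1 (h ▸ hUT))
  have hNT : Subgroup.normalizer (T : Set G) ≤ X := by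
    rcases eq_or_ne q p with rfl | hqp
    · have hST : (S : Subgroup G) ≤ T := le_of_isPGroup hT hXT S.2 Subgroup.le_normalizer
      rw [show T = (S : Subgroup G) from S.3 hT.2.1 hST]
    · set N := Subgroup.normalizer (T : Set G) with hN
      obtain ⟨k, hk⟩ := IsPGroup.iff_card.1 hT.2.1
      have hSC : (S : Subgroup G) ≤ Subgroup.centralizer (T : Set G) :=
        le_centralizer_of_nilpotent (kernel_nilpotent X) (sylow_le_kernel S) hTM S.2
          (by rw [hk]; exact ((Nat.coprime_primes Fact.out Fact.out).2 hqp).pow_left k)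
      have hCN' : Subgroup.centralizer (T : Set G) ≤ N := Subgroup.centralizer_le_normalizer _
      haveI : ((Subgroup.centralizer (T : Set G)).subgroupOf N).Normal := inferInstance
      have hnil : Group.IsNilpotent ((Subgroup.centralizer (T : Set G)).subgroupOf N) := by
        have := H54.cn_centralizer_nilpotent hG.cn hT1
        exact Group.nilpotent_of_mulEquiv (Subgroup.subgroupOfEquivOfLe hCN').symm
      have hSn := sylow_normal_of_le_nilpotent (S.subtype (hSC.trans hCN')) _ hnil (by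
        rw [Sylow.coe_subtype]
        exact fun x hx => hSC hx)
      have h := le_normalizer_map_subtype N _ hSn
      rwa [Sylow.coe_subtype, Subgroup.map_subgroupOf_eq_of_le (hSC.trans hCN')] at h
  obtain ⟨Q, hTQ⟩ := hT.2.1.exists_le_sylow
  have e : T = (Q : Subgroup G) := by
    rcases hTQ.eq_or_lt with e | hlt
    · exact e
    · exfalso
      have h1 := H23.lt_inf_normalizer Q.2 hlt
      exact h1.not_ge (le_of_isPGroup hT hXT (Q.2.to_le inf_le_left) (inf_le_right.trans hNT))
  subst e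
  exact ⟨Q, hT1, hTM, le_antisymm hNT hXT⟩

/-- Kernels are TI: only normalising elements conjugate a non-identity element of the kernel
into the kernel. -/
theorem mem_of_conj_mem (hG : MinCN G) {p : ℕ} [Fact p.Prime] (S : Sylow p G)
    (hS : (S : Subgroup G) ≠ ⊥) {x g : G}
    (hx : x ∈ Cfsg.fittingOf (Subgroup.normalizer ((S : Subgroup G) : Set G))) (hx1 : x ≠ 1)
    (hgx : g * x * g⁻¹ ∈ Cfsg.fittingOf (Subgroup.normalizer ((S : Subgroup G) : Set G))) :
    g ∈ Subgroup.normalizer ((S : Subgroup G) : Set G) := by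
  set X := Subgroup.normalizer ((S : Subgroup G) : Set G) with hXdef
  set M := Cfsg.fittingOf X with hM
  obtain ⟨q, k, hq, hqd, hord⟩ := exists_pow_prime hx1
  haveI := Fact.mk hq
  obtain ⟨Q, -, -, hQN⟩ := hG.exists_sylow S hS (q := q) (hqd.trans (M.orderOf_dvd_natCard hx))
  rw [← hXdef] at hQN
  have hQX : (Q : Subgroup G) ≤ X := hQN ▸ Subgroup.le_normalizer
  have hQin : IsSylowIn q (Q : Subgroup G) X := sylowIn_of_le Q hQX
  have key : ∀ y ∈ M, orderOf y = q → y ∈ (Q : Subgroup G) := fun y hy hyq =>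
    le_of_isPGroup hQin hQN.ge (IsPGroup.of_card (n := 1) (by rw [Nat.card_zpowers, hyq, pow_one]))
      (Subgroup.zpowers_le.2 (kernel_le X hy)) (Subgroup.mem_zpowers y)
  have h1 : x ^ k ∈ (Q : Subgroup G) := key _ (M.pow_mem hx k) hord
  have h2 : g * x ^ k * g⁻¹ ∈ (Q : Subgroup G) := by
    refine key _ (by rw [← conj_pow]; exact M.pow_mem hgx k) ?_
    rw [← hord]
    exact orderOf_injective (MulAut.conj g).toMonoidHom (MulAut.conj g).injective (x ^ k)
  have h3 : g * x ^ k * g⁻¹ ∈ ((g • Q : Sylow q G) : Subgroup G) := H22.conj_mem_smul_sylow h1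
  have h4 : g • Q = Q := hG.sylow_ti _ _ fun h => by
    have h5 : g * x ^ k * g⁻¹ ∈ (⊥ : Subgroup G) := h ▸ ⟨h3, h2⟩
    rw [Subgroup.mem_bot, conj_eq_one_iff] at h5
    rw [h5, orderOf_one] at hord
    exact hq.ne_one hord.symm
  rw [← hQN]
  exact Sylow.smul_eq_iff_mem_normalizer.1 h4

/-- Centralisers of non-identity kernel elements lie in the kernel. -/
theorem centralizer_le (hG : MinCN G) {p : ℕ} [Fact p.Prime] (S : Sylow p G)
    (hS : (S : Subgroup G) ≠ ⊥) {x : G}
    (hx : x ∈ Cfsg.fittingOf (Subgroup.normalizer ((S : Subgroup G) : Set G))) (hx1 : x ≠ 1) :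
    Subgroup.centralizer ({x} : Set G) ≤
      Cfsg.fittingOf (Subgroup.normalizer ((S : Subgroup G) : Set G)) := by
  set X := Subgroup.normalizer ((S : Subgroup G) : Set G) with hXdef
  set M := Cfsg.fittingOf X with hM
  refine le_of_primePow fun r hr y hy hyr => ?_
  haveI := Fact.mk hr
  have hyx : Commute y x := Subgroup.mem_centralizer_singleton_iff.1 hy
  have hyX : y ∈ X := hG.mem_of_conj_mem S hS hx hx1 (by rwa [hyx.eq, mul_inv_cancel_right])
  by_cases hrM : r ∣ Nat.card M
  · obtain ⟨R, -, hRM, hRN⟩ := hG.exists_sylow S hS (q := r) hrM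
    exact hRM (le_of_isPGroup (sylowIn_of_le R (hRN ▸ Subgroup.le_normalizer)) hRN.ge hyr
      (Subgroup.zpowers_le.2 hyX) (Subgroup.mem_zpowers y))
  · obtain ⟨k, hk⟩ := IsPGroup.iff_card.1 hyr
    rw [Nat.card_zpowers] at hk
    have hcop : ∀ m ∈ M, (orderOf y).Coprime (orderOf m) := fun m hm => by
      rw [hk]
      exact (((Nat.Prime.coprime_iff_not_dvd hr).2 hrM).pow_left k).coprime_dvd_right
        (M.orderOf_dvd_natCard hm)
    haveI := kernel_nilpotent X
    haveI : Nontrivial M := ⟨⟨⟨x, hx⟩, 1, fun e => hx1 (congrArg Subtype.val e)⟩⟩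
    obtain ⟨z, hz, hz1⟩ := (Subgroup.bot_or_exists_ne_one _).resolve_left
      (Group.IsNilpotent.center_ne_bot M)
    have hzM : ∀ m ∈ M, Commute m (z : G) := fun m hm =>
      congrArg Subtype.val (Subgroup.mem_center_iff.1 hz ⟨m, hm⟩)
    have hyz : Commute y (z : G) :=
      H54.cn_commute hG.cn hx1 hyx (hzM x hx).symm (hcop _ z.2)
    haveI := hG.proper X (hG.normalizer_ne_top S.2 hS)
    refine ⟨⟨y, hyX⟩, H19.centralizer_fitting_le (Subgroup.mem_centralizer_iff.2 fun f hf => ?_), rfl⟩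
    exact Subtype.ext (H54.cn_commute hG.cn (fun e => hz1 (Subtype.ext e))
      hyz (hzM f (Subgroup.mem_map_of_mem X.subtype hf)) (hcop f ⟨f, hf, rfl⟩)).symm.eq

/-- The kernel has normaliser `N(S)`. -/
theorem normalizer_kernel (hG : MinCN G) {p : ℕ} [Fact p.Prime] (S : Sylow p G)
    (hS : (S : Subgroup G) ≠ ⊥) :
    Subgroup.normalizer
        ((Cfsg.fittingOf (Subgroup.normalizer ((S : Subgroup G) : Set G)) : Subgroup G) : Set G) =
      Subgroup.normalizer ((S : Subgroup G) : Set G) := by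
  refine le_antisymm (fun g hg => ?_) (le_normalizer_kernel _)
  obtain ⟨x, hx, hx1⟩ := (Subgroup.bot_or_exists_ne_one _).resolve_left hS
  exact hG.mem_of_conj_mem S hS (sylow_le_kernel S hx) hx1
    ((Subgroup.mem_normalizer_iff.1 hg x).1 (sylow_le_kernel S hx))

/-- The kernel is proper in its normaliser. -/
theorem kernel_ne (hG : MinCN G) {p : ℕ} [Fact p.Prime] (S : Sylow p G)
    (hS : (S : Subgroup G) ≠ ⊥) :
    Cfsg.fittingOf (Subgroup.normalizer ((S : Subgroup G) : Set G)) ≠
      Subgroup.normalizer ((S : Subgroup G) : Set G) := by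
  intro h
  haveI : Group.IsNilpotent (Subgroup.normalizer ((S : Subgroup G) : Set G)) :=
    h ▸ kernel_nilpotent _
  refine hS (H22.eq_bot_of_le_commutator (Subgroup.normalizer ((S : Subgroup G) : Set G)) _
    Subgroup.le_normalizer ?_)
  exact (hG.sylow_le_commutator S).trans
    (Subgroup.commutator_mono le_rfl (hG.normalizer_centerThompson_le S hS))

/-- The kernel is nontrivial. -/
theorem kernel_ne_bot {p : ℕ} [Fact p.Prime] (S : Sylow p G) (hS : (S : Subgroup G) ≠ ⊥) :
    Cfsg.fittingOf (Subgroup.normalizer ((S : Subgroup G) : Set G)) ≠ ⊥ :=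
  fun h => hS (le_bot_iff.1 (h ▸ sylow_le_kernel S))

/-- Two kernels with a common prime have conjugate normalisers. -/
theorem exists_conj_of_not_coprime (hG : MinCN G) {p p' : ℕ} [Fact p.Prime] [Fact p'.Prime]
    (S : Sylow p G) (hS : (S : Subgroup G) ≠ ⊥) (S' : Sylow p' G) (hS' : (S' : Subgroup G) ≠ ⊥)
    (h : ¬ (Nat.card (Cfsg.fittingOf (Subgroup.normalizer ((S : Subgroup G) : Set G)))).Coprime
      (Nat.card (Cfsg.fittingOf (Subgroup.normalizer ((S' : Subgroup G) : Set G))))) :
    ∃ g : G, Subgroup.normalizer ((S' : Subgroup G) : Set G) =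
      (Subgroup.normalizer ((S : Subgroup G) : Set G)).map (MulAut.conj g).toMonoidHom := by
  obtain ⟨q, hq, h1, h2⟩ := Nat.Prime.not_coprime_iff_dvd.1 h
  haveI := Fact.mk hq
  obtain ⟨Q, -, -, hQN⟩ := hG.exists_sylow S hS (q := q) h1
  obtain ⟨Q', -, -, hQN'⟩ := hG.exists_sylow S' hS' (q := q) h2
  obtain ⟨g, hg⟩ := MulAction.exists_smul_eq G Q Q'
  refine ⟨g, ?_⟩
  rw [← hQN, ← hQN', ← hg]
  exact (H61.cj_normalizer g (Q : Subgroup G)).symm

/-- Every non-identity element lies in some kernel. -/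
theorem exists_kernel (hG : MinCN G) {x : G} (hx : x ≠ 1) :
    ∃ (q : ℕ) (_ : Fact q.Prime) (Q : Sylow q G), (Q : Subgroup G) ≠ ⊥ ∧
      x ∈ Cfsg.fittingOf (Subgroup.normalizer ((Q : Subgroup G) : Set G)) := by
  obtain ⟨q, k, hq, -, hord⟩ := exists_pow_prime hx
  haveI := Fact.mk hq
  obtain ⟨Q, hQ⟩ := (IsPGroup.of_card (n := 1)
    (show Nat.card (Subgroup.zpowers (x ^ k)) = q ^ 1 by rw [Nat.card_zpowers, hord, pow_one])).exists_le_sylow
  have hxQ : x ^ k ∈ (Q : Subgroup G) := hQ (Subgroup.mem_zpowers _)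
  have hxk : x ^ k ≠ 1 := fun e => by rw [e, orderOf_one] at hord; exact hq.ne_one hord.symm
  have hQ1 : (Q : Subgroup G) ≠ ⊥ := fun e => hxk (by rwa [e, Subgroup.mem_bot] at hxQ)
  exact ⟨q, ⟨hq⟩, Q, hQ1, hG.centralizer_le Q hQ1 (sylow_le_kernel Q hxQ) hxk
    (Subgroup.mem_centralizer_singleton_iff.2 (Commute.self_pow x k).eq)⟩

end MinCN

end Cfsg.Agent.H27
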