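import Cfsg.Agent.H27.CNKernel
import Cfsg.Agent.H27.CNChar

/-!
The CN-theorem for groups of odd order.
-/

set_option autoImplicit false

namespace Cfsg.Agent.H27

universe u

/-- A minimal non-solvable CN-group of odd order does not exist. -/
theorem MinCN.false {G : Type u} [Group G] [Finite G] (hG : MinCN G) : False := by
  classical
  haveI := Fintype.ofFinite G
  let K := {X : Subgroup G // ∃ (p : ℕ) (_ : Fact p.Prime) (S : Sylow p G),
    (S : Subgroup G) ≠ ⊥ ∧ X = Subgroup.normalizer ((S : Subgroup G) : Set G)}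
  letI r : Setoid K :=
    { r := fun A B => ∃ g : G, B.1 = A.1.map (MulAut.conj g).toMonoidHom
      iseqv := by
        refine ⟨fun A => ⟨1, ?_⟩, ?_, ?_⟩
        · exact (H61.cj_eq_self (g := (1 : G)) (A := A.1) (one_mem _)).symm
        · rintro A B ⟨g, hg⟩
          refine ⟨g⁻¹, ?_⟩
          rw [hg, Subgroup.map_map]
          convert (Subgroup.map_id A.1).symm using 2
          ext x
          simp [mul_assoc]
        · rintro A B C ⟨g, hg⟩ ⟨h, hh⟩
          refine ⟨h * g, ?_⟩
          rw [hh, hg, Subgroup.map_map]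
          congr 1
          ext x
          simp [mul_assoc] }
  haveI : Fintype (Quotient r) := Fintype.ofFinite _
  haveI := hG.simple
  haveI : Nonempty (Quotient r) := by
    obtain ⟨x, hx⟩ := exists_ne (1 : G)
    obtain ⟨q, hq, Q, hQ, -⟩ := hG.exists_kernel hx
    exact ⟨⟦⟨_, q, hq, Q, hQ, rfl⟩⟧⟩
  refine cn_family_false hG.odd (fun i : Quotient r => Cfsg.fittingOf i.out.1) (fun i => ?_)
    (fun i j hij => ?_) (fun x hx => ?_)
  · obtain ⟨p, hp, S, hS, e⟩ := i.out.2
    rw [e]
    refine ⟨MinCN.kernel_nilpotent _, MinCN.kernel_ne_bot S hS, fun x hx hx1 g hg => ?_,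
      fun x hx hx1 => hG.centralizer_le S hS hx hx1, ?_⟩
    · rw [hG.normalizer_kernel S hS]
      exact hG.mem_of_conj_mem S hS hx hx1 hg
    · rw [hG.normalizer_kernel S hS]
      exact hG.kernel_ne S hS
  · obtain ⟨p, hp, S, hS, e⟩ := i.out.2
    obtain ⟨p', hp', S', hS', e'⟩ := j.out.2
    by_contra hcon
    rw [e, e'] at hcon
    obtain ⟨g, hg⟩ := hG.exists_conj_of_not_coprime S hS S' hS' hcon
    apply hij
    rw [← Quotient.out_eq i, ← Quotient.out_eq j]
    exact Quotient.sound ⟨g, by rw [e, e', hg]⟩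
  · obtain ⟨q, hq, Q, hQ, hxQ⟩ := hG.exists_kernel hx
    let A : K := ⟨Subgroup.normalizer ((Q : Subgroup G) : Set G), q, hq, Q, hQ, rfl⟩
    obtain ⟨g, hg⟩ := r.symm (Quotient.mk_out (s := r) A)
    refine ⟨⟦A⟧, g, ?_⟩
    show g * x * g⁻¹ ∈ Cfsg.fittingOf (Quotient.out (⟦A⟧ : Quotient r)).1
    rw [hg]
    exact map_fittingOf_le A.1 (MulAut.conj g).toMonoidHom (MulAut.conj g).injective
      ⟨x, hxQ, rfl⟩

/-- CN-groups of odd order are solvable. -/
theorem cn_solvable {G : Type u} [Group G] [Finite G] (hodd : Odd (Nat.card G))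
    (hCN : Cfsg.IsCNGroup G) : Group.IsSolvable G := by
  induction hn : Nat.card G using Nat.strong_induction_on generalizing G with
  | _ n ih =>
    subst hn
    by_contra hns
    have hprop : ∀ H : Subgroup G, H ≠ ⊤ → Group.IsSolvable H := fun H hH =>
      ih _ (H19.card_lt_of_ne_top H hH) (hodd.of_dvd_nat H.card_subgroup_dvd_card)
        (H54.cn_subgroup hCN H) rfl
    haveI : Nontrivial G := not_subsingleton_iff_nontrivial.1 fun h => hns inferInstance
    have hsimple : IsSimpleGroup G := ⟨fun N hN => by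
      by_contra hcon
      push_neg at hcon
      haveI := hN
      have hNs := hprop N hcon.2
      have hlt : Nat.card (G ⧸ N) < Nat.card G := by
        haveI := (Subgroup.nontrivial_iff_ne_bot N).2 hcon.1
        rw [N.card_eq_card_quotient_mul_card_subgroup]
        exact lt_mul_of_one_lt_right Nat.card_pos Finite.one_lt_card
      have := ih _ hlt (hodd.of_dvd_nat N.card_quotient_dvd_card) (H54.cn_quotient hCN N hNs) rfl
      exact hns (Group.isSolvable_of_ker_le_range N.subtype (QuotientGroup.mk' N) (by simp))⟩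
    exact MinCN.false ⟨hodd, hCN, hsimple, hns, hprop⟩

end Cfsg.Agent.H27
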