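import Mathlib
import Cfsg.Agent.S0887
import Cfsg.Agent.H43.PPrimeDegree
import Cfsg.Agent.H56.Clifford
import Cfsg.Agent.H44.NormalDegrees
import Cfsg.Agent.H25.TwoDegrees
import Cfsg.Agent.H26.CharFS

/-!
# Tools for arguments on character degrees
-/

set_option autoImplicit false

open scoped commutatorElement ComplexConjugate

namespace Cfsg.Agent.H27.Deg

variable {G : Type*} [Group G] [Finite G]

/-- The trivial character has degree one. -/
theorem charDegree_oneIrr : Cfsg.charDegree (H26.oneIrr G).1 = 1 := by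
  simp [Cfsg.charDegree, H26.oneIrr_val]

/-- A character of degree one is given by a homomorphism. -/
theorem exists_hom {χ : Cfsg.IrrCharacter G} (h : Cfsg.charDegree χ.1 = 1) :
    ∃ f : G →* ℂˣ, ∀ g, (f g : ℂ) = χ.1 g :=
  H26.exists_hom_of_isCharacter_one (H26.irr_isCharacter χ)
    (by rw [H43.irr_charDegree_spec, h, Nat.cast_one])

/-- A character of degree one kills the commutator subgroup. -/
theorem commutator_le_charKer {χ : Cfsg.IrrCharacter G} (h : Cfsg.charDegree χ.1 = 1) :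
    commutator G ≤ H43.charKer χ := by
  obtain ⟨f, hf⟩ := exists_hom h
  intro y hy
  rw [H43.mem_charKer, ← hf, ← hf, map_one,
    MonoidHom.mem_ker.1 (Abelianization.commutator_subset_ker f hy)]

/-- A character killing the commutator subgroup has degree one. -/
theorem charDegree_eq_one_of_commutator_le {χ : Cfsg.IrrCharacter G}
    (h : commutator G ≤ H43.charKer χ) : Cfsg.charDegree χ.1 = 1 := by
  classical
  haveI := Fintype.ofFinite G
  obtain ⟨n, ρ, hρ, e⟩ := χ.2
  haveI := hρ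
  have hn : Cfsg.charDegree χ.1 = n := by simp [Cfsg.charDegree, ← e]
  have hcomm : ∀ z x : G, ρ z ∘ₗ ρ x = ρ x ∘ₗ ρ z := by
    intro z x
    have h1 : ρ ⁅z, x⁆ = 1 := by
      have h2 := h (Subgroup.commutator_mem_commutator (Subgroup.mem_top z) (Subgroup.mem_top x))
      rw [H43.mem_charKer, ← e, ρ.char_one, H25.char_eq_degree_iff] at h2
      exact h2
    simp only [← Module.End.mul_eq_comp, ← map_mul]
    rw [show z * x = ⁅z, x⁆ * (x * z) by simp [commutatorElement_def, mul_assoc], map_mul, h1,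
      one_mul]
  have hnorm : ∀ z, ρ.character z * ρ.character z⁻¹ = (n : ℂ) ^ 2 := by
    intro z
    obtain ⟨c, hc⟩ : ∃ c : ℂ, ρ z = c • (LinearMap.id : (Fin n → ℂ) →ₗ[ℂ] (Fin n → ℂ)) :=
      ⟨_, H25.eq_smul_id_of_comm ρ (ρ z) (hcomm z)⟩
    obtain ⟨d, hd⟩ : ∃ d : ℂ, ρ z⁻¹ = d • (LinearMap.id : (Fin n → ℂ) →ₗ[ℂ] (Fin n → ℂ)) :=
      ⟨_, H25.eq_smul_id_of_comm ρ (ρ z⁻¹) (hcomm z⁻¹)⟩
    rw [Representation.character, Representation.character, hc, hd,
      map_smul, map_smul, LinearMap.trace_id, Module.finrank_fin_fun, smul_eq_mul, smul_eq_mul]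
    have h := map_mul ρ z z⁻¹
    rw [mul_inv_cancel, map_one, hc, hd] at h
    have h' := congrArg (LinearMap.trace ℂ (Fin n → ℂ)) h
    rw [LinearMap.trace_one, Module.finrank_fin_fun] at h'
    simp [Module.End.mul_eq_comp, LinearMap.comp_smul, LinearMap.smul_comp, smul_smul,
      LinearMap.trace_id] at h'
    linear_combination (-(n : ℂ)) * h'
  have hsum := H25.sum_char_mul_char_inv ρ
  rw [Finset.sum_congr rfl fun g _ => hnorm g, Finset.sum_const, Finset.card_univ, nsmul_eq_mul,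
    ← Nat.card_eq_fintype_card] at hsum
  have h2 : n ^ 2 = 1 := by
    have h1 : Nat.card G * n ^ 2 = Nat.card G * 1 := by rw [mul_one]; exact_mod_cast hsum
    exact Nat.eq_of_mul_eq_mul_left Nat.card_pos h1
  rw [hn]
  exact (Nat.pow_eq_one.1 h2).resolve_right two_ne_zero

/-- The inflation of a character of a quotient. -/
noncomputable def infl (N : Subgroup G) [N.Normal] (η : Cfsg.IrrCharacter (G ⧸ N)) :
    Cfsg.IrrCharacter G :=
  ⟨fun g => η.1 (QuotientGroup.mk' N g), by
    obtain ⟨n, ρ, hρ, e⟩ := η.2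
    refine ⟨n, ρ.comp (QuotientGroup.mk' N), ?_, ?_⟩
    · haveI := hρ
      exact H43.isIrreducible_comp_surjective ρ (QuotientGroup.mk' N)
        (QuotientGroup.mk'_surjective N)
    · funext g
      show ρ.character _ = η.1 _
      rw [e]⟩

/-- Inflation keeps the degree. -/
theorem charDegree_infl (N : Subgroup G) [N.Normal] (η : Cfsg.IrrCharacter (G ⧸ N)) :
    Cfsg.charDegree (infl N η).1 = Cfsg.charDegree η.1 := by
  simp [Cfsg.charDegree, infl]

variable (N : Subgroup G) [N.Normal]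

/-- A constituent degree divides, with quotient dividing the index. -/
theorem constituent_dvd [Fintype G] [Fintype N] (χ : Cfsg.IrrCharacter G)
    (θ : Cfsg.IrrCharacter N) (h : Cfsg.classInner (fun n : N => χ.1 n) θ.1 ≠ 0) :
    Cfsg.charDegree θ.1 ∣ Cfsg.charDegree χ.1 ∧
      Cfsg.charDegree χ.1 / Cfsg.charDegree θ.1 ∣ N.index :=
  S0887.result N χ.1 χ.2 θ.1 θ.2 h _ _ (H43.irr_charDegree_spec χ) (H43.irr_charDegree_spec θ)

/-- A constituent of full degree is the restriction. -/
theorem restrict_eq_of_degree_eq [Fintype G] [Fintype N] (χ : Cfsg.IrrCharacter G)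
    (θ : Cfsg.IrrCharacter N) (h : Cfsg.classInner (fun n : N => χ.1 n) θ.1 ≠ 0)
    (hd : Cfsg.charDegree χ.1 = Cfsg.charDegree θ.1) : (fun n : N => χ.1 n) = θ.1 := by
  obtain ⟨e, he, hdeg⟩ := H44.exists_degree_eq_index_inertia N χ θ h
  rw [hd] at hdeg
  have h1 : e * (H44.inertia N θ.1).index = 1 := by
    refine Nat.eq_of_mul_eq_mul_right (H43.irr_charDegree_pos θ) (?_ : _ = 1 * _)
    rw [one_mul, mul_assoc]; exact hdeg.symm
  have hinv : ∀ g : G, H56.twist N θ.1 g = θ.1 := by
    intro g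
    rw [← H44.mem_inertia, Subgroup.index_eq_one.1 (Nat.eq_one_of_mul_eq_one_left h1)]
    trivial
  obtain ⟨e', -, hres, he', -⟩ := H56.restrict_eq_smul_of_invariant N θ.2 hinv χ.2 h
  have : e' = 1 := by
    have h2 : (e' : ℂ) = (e : ℂ) := by rw [← he', he]
    rw [Nat.cast_inj.1 h2]
    exact Nat.eq_one_of_mul_eq_one_right h1
  rw [hres, this, Nat.cast_one, one_smul]

/-- If the inertia group of `θ` is `N`, a character above it has degree `[G : N] θ(1)`. -/
theorem exists_degree_of_inertia_eq [Fintype G] [Fintype N] (θ : Cfsg.IrrCharacter N)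
    (hI : H44.inertia N θ.1 ≤ N) :
    ∃ χ : Cfsg.IrrCharacter G, Cfsg.charDegree χ.1 = N.index * Cfsg.charDegree θ.1 := by
  obtain ⟨χ, hχ⟩ := H44.exists_irr_over N θ
  obtain ⟨e, he, hdeg⟩ := H44.exists_degree_eq_index_inertia N χ θ hχ
  rw [show H44.inertia N θ.1 = N from
    le_antisymm hI (H44.le_inertia N (H26.irr_isClassFunction θ))] at hdeg
  refine ⟨χ, ?_⟩
  have hind : Cfsg.IsCharacter G (Cfsg.indFun N θ.1) :=
    H25.isCharacter_indFun N (H26.irr_isCharacter θ)
  have hne : Cfsg.classInner (Cfsg.indFun N θ.1) χ.1 ≠ 0 := by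
    rw [H25.classInner_indFun_left N θ.1 χ.1 (H26.irr_isClassFunction χ),
      ← H25.conj_classInner, he, Complex.conj_natCast]
    rwa [← he]
  have hle := H56.re_one_le_of_constituent hind χ.2 hne
  rw [H25.indFun_one, H43.irr_charDegree_spec, H43.irr_charDegree_spec, ← Nat.cast_mul,
    Complex.natCast_re, Complex.natCast_re, Nat.cast_le, hdeg] at hle
  have hpos : 0 < N.index * Cfsg.charDegree θ.1 :=
    Nat.mul_pos (Nat.pos_of_ne_zero Subgroup.index_ne_zero_of_finite) (H43.irr_charDegree_pos θ)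
  have he1 : e ≤ 1 := Nat.le_of_mul_le_mul_right (by rwa [one_mul]) hpos
  have he0 : e ≠ 0 := fun h0 => hχ (by rw [he, h0, Nat.cast_zero])
  rw [hdeg, show e = 1 by omega, one_mul]

omit [N.Normal] in
/-- An element in the kernel of every irreducible character is trivial. -/
theorem eq_one_of_forall_mem_charKer {g : G}
    (h : ∀ χ : Cfsg.IrrCharacter G, g ∈ H43.charKer χ) : g = 1 := by
  haveI := Fintype.ofFinite G
  exact isConj_one_left.1 ((H26.isConj_iff_forall_irr g 1).2 fun χ => h χ)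

omit [N.Normal] in
/-- One step of Taketa's argument: if all characters of degree below the inducing index kill a
normal subgroup, the induced linear character kills its commutator subgroup. -/
theorem taketa_step [Fintype G] (D : Subgroup G) [D.Normal] (χ : Cfsg.IrrCharacter G)
    (H : Subgroup G) (lam : H →* ℂˣ) (hχ : χ.1 = Cfsg.indFun H (fun h => (lam h : ℂ)))
    (hsmall : ∀ ψ : Cfsg.IrrCharacter G, Cfsg.charDegree ψ.1 < H.index → D ≤ H43.charKer ψ)
    (hdim : 2 ≤ H.index) : ⁅D, D⁆ ≤ H43.charKer χ := by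
  classical
  set P := Cfsg.indFun H (fun _ => (1 : ℂ)) with hP
  have hPchar : Cfsg.IsCharacter G P :=
    H25.isCharacter_indFun H (H26.isCharacter_of_irr (H26.oneIrr H).2)
  obtain ⟨c, hc, hcP⟩ := H26.exists_nat_coeffs hPchar
  have hone : c (H26.oneIrr G) = 1 := by
    have h1 := hc (H26.oneIrr G)
    rw [hP, H25.classInner_indFun_left H _ _ (H26.irr_isClassFunction _),
      show (fun h : H => (H26.oneIrr G).1 h) = fun _ => (1 : ℂ) from rfl,
      show Cfsg.classInner (fun _ : H => (1 : ℂ)) (fun _ => 1) = 1 from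
        H57.irr_inner_self (H26.oneIrr H).2] at h1
    exact_mod_cast h1.symm
  have hsum : H.index = ∑ ψ, c ψ * Cfsg.charDegree (ψ : G → ℂ) := by
    have h2 : P 1 = (H.index : ℂ) := by rw [hP, H25.indFun_one, mul_one]
    rw [hcP, Finset.sum_apply] at h2
    have h3 : ((∑ ψ, c ψ * Cfsg.charDegree (ψ : G → ℂ) : ℕ) : ℂ) = (H.index : ℂ) := by
      rw [← h2, Nat.cast_sum]
      refine Finset.sum_congr rfl fun ψ _ => ?_
      rw [Pi.smul_apply, smul_eq_mul, Nat.cast_mul, H43.irr_charDegree_spec]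
    exact_mod_cast h3.symm
  have hker : ∀ y ∈ D, P y = P 1 := by
    intro y hy
    rw [hcP, Finset.sum_apply, Finset.sum_apply]
    refine Finset.sum_congr rfl fun ψ _ => ?_
    simp only [Pi.smul_apply]
    by_cases h0 : c ψ = 0
    · simp [h0]
    have hψ : D ≤ H43.charKer ψ := by
      refine hsmall ψ ?_
      by_cases hψ1 : ψ = H26.oneIrr G
      · rw [hψ1, charDegree_oneIrr]; omega
      have h4 := Finset.sum_le_sum_of_subset_of_nonneg
        (f := fun φ => c φ * Cfsg.charDegree (φ : G → ℂ))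
        (Finset.subset_univ ({ψ, H26.oneIrr G} : Finset _)) (fun _ _ _ => Nat.zero_le _)
      rw [Finset.sum_pair hψ1, ← hsum, hone, charDegree_oneIrr] at h4
      have h5 : Cfsg.charDegree (ψ : G → ℂ) ≤ c ψ * Cfsg.charDegree (ψ : G → ℂ) :=
        Nat.le_mul_of_pos_left _ (Nat.pos_of_ne_zero h0)
      omega
    rw [H43.mem_charKer.1 (hψ hy)]
  have hH : ∀ y ∈ D, y ∈ H := by
    intro y hy
    have h := hker y hy
    rw [hP, H25.indFun_apply, H25.indFun_one, mul_one, inv_mul_eq_iff_eq_mul₀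
      (Nat.cast_ne_zero.mpr Nat.card_pos.ne'), ← Nat.cast_mul, H.card_mul_index] at h
    have hre : ∀ x : G, Cfsg.extendByZero H (fun _ => (1 : ℂ)) (x⁻¹ * y * x) =
        ((if x⁻¹ * y * x ∈ H then 1 else 0 : ℕ) : ℂ) := by
      intro x
      by_cases hx : x⁻¹ * y * x ∈ H
      · rw [if_pos hx, H25.extendByZero_of_mem _ _ hx, Nat.cast_one]
      · rw [if_neg hx, H25.extendByZero_of_notMem _ _ hx, Nat.cast_zero]
    rw [Finset.sum_congr rfl fun x _ => hre x, ← Nat.cast_sum, Nat.cast_inj,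
      Finset.sum_boole, Nat.cast_id, Nat.card_eq_fintype_card] at h
    have h1 := (Finset.card_eq_iff_eq_univ _).mp h
    have : (1 : G) ∈ Finset.univ.filter fun x : G => x⁻¹ * y * x ∈ H := by
      rw [h1]; exact Finset.mem_univ _
    simpa using this
  rw [Subgroup.commutator_le]
  intro a ha b hb
  rw [H43.mem_charKer, hχ, H25.indFun_apply, H25.indFun_one]
  have hval : ∀ x : G, Cfsg.extendByZero H (fun h => (lam h : ℂ)) (x⁻¹ * ⁅a, b⁆ * x) = 1 := by
    intro x
    have hconj : ∀ y ∈ D, x⁻¹ * y * x ∈ D := fun y hy => by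
      simpa using (inferInstance : D.Normal).conj_mem y hy x⁻¹
    have ha' := hH _ (hconj a ha)
    have hb' := hH _ (hconj b hb)
    have he : x⁻¹ * ⁅a, b⁆ * x = ((⁅(⟨_, ha'⟩ : H), ⟨_, hb'⟩⁆ : H) : G) := by
      simp only [commutatorElement_def, Subgroup.coe_mul, Subgroup.coe_inv]; group
    rw [he, H25.extendByZero_of_mem _ _ (Subtype.prop _)]
    have hl : lam ⁅(⟨_, ha'⟩ : H), ⟨_, hb'⟩⁆ = 1 := by
      rw [map_commutatorElement]
      exact commutatorElement_eq_one_iff_mul_comm.mpr (mul_comm _ _)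
    exact congrArg Units.val hl
  rw [Finset.sum_congr rfl fun x _ => hval x, Finset.sum_const, Finset.card_univ, nsmul_eq_mul,
    mul_one, map_one, Units.val_one, mul_one, inv_mul_eq_iff_eq_mul₀
      (Nat.cast_ne_zero.mpr Nat.card_pos.ne'), ← Nat.cast_mul, H.card_mul_index,
    Nat.card_eq_fintype_card]

end Cfsg.Agent.H27.Deg
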